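import Mathlib

/-!
Integer vectors of norm two and the two numerical contradictions.
-/

set_option autoImplicit false
set_option linter.all false

namespace Cfsg.Agent.Components.CyclicPairs

/-- An integer vector of norm two orthogonal to a positive vector has one `1` and one `-1`. -/
theorem two_points {ι : Type*} (s : Finset ι) (v : ι → ℤ) (d : ι → ℕ) (hd : ∀ i ∈ s, 0 < d i)
    (hn : ∑ i ∈ s, v i ^ 2 = 2) (hdeg : ∑ i ∈ s, v i * (d i : ℤ) = 0) :
    ∃ X ∈ s, ∃ Y ∈ s, X ≠ Y ∧ v X = 1 ∧ v Y = -1 ∧ d X = d Y ∧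
      ∀ i ∈ s, i ≠ X → i ≠ Y → v i = 0 := by
  classical
  have hsmall : ∀ i ∈ s, v i = -1 ∨ v i = 0 ∨ v i = 1 := fun i hi => by
    have h := Finset.single_le_sum (f := fun i => v i ^ 2) (fun i _ => sq_nonneg _) hi
    rw [hn] at h
    have h1 : v i ≤ 1 := by nlinarith
    have h2 : -1 ≤ v i := by nlinarith
    omega
  obtain ⟨i₀, hi₀, hne⟩ : ∃ i ∈ s, v i ≠ 0 := by
    by_contra hall
    push Not at hall
    rw [Finset.sum_eq_zero fun i hi => by rw [hall i hi]; ring] at hn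
    norm_num at hn
  obtain ⟨X, hX, hvX⟩ : ∃ i ∈ s, v i = 1 := by
    by_contra hall
    push Not at hall
    have := Finset.sum_lt_sum (s := s) (f := fun i => v i * (d i : ℤ)) (g := fun _ => (0 : ℤ))
      (fun i hi => by
        rcases hsmall i hi with h | h | h
        · rw [h]; linarith [Int.natCast_nonneg (d i)]
        · rw [h]; simp
        · exact absurd h (hall i hi))
      ⟨i₀, hi₀, by
        rcases hsmall i₀ hi₀ with h | h | h
        · rw [h]; have := hd i₀ hi₀; omega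
        · exact absurd h hne
        · exact absurd h (hall i₀ hi₀)⟩
    simp [hdeg] at this
  obtain ⟨Y, hY, hvY⟩ : ∃ i ∈ s, v i = -1 := by
    by_contra hall
    push Not at hall
    have := Finset.sum_lt_sum (s := s) (g := fun i => v i * (d i : ℤ)) (f := fun _ => (0 : ℤ))
      (fun i hi => by
        rcases hsmall i hi with h | h | h
        · exact absurd h (hall i hi)
        · rw [h]; simp
        · rw [h]; simp)
      ⟨X, hX, by rw [hvX]; have := hd X hX; omega⟩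
    simp [hdeg] at this
  have hXY : X ≠ Y := fun h => by rw [h, hvY] at hvX; norm_num at hvX
  have hsub : ({X, Y} : Finset ι) ⊆ s := Finset.insert_subset hX (Finset.singleton_subset_iff.mpr hY)
  have hzero : ∀ i ∈ s, i ≠ X → i ≠ Y → v i = 0 := by
    intro i hi h1 h2
    have h := Finset.sum_sdiff hsub (f := fun i => v i ^ 2)
    rw [Finset.sum_pair hXY, hvX, hvY, hn] at h
    have h3 : ∑ i ∈ s \ {X, Y}, v i ^ 2 = 0 := by linarith
    have h4 := (Finset.sum_eq_zero_iff_of_nonneg fun i _ => sq_nonneg (v i)).mp h3 i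
      (by simp [hi, h1, h2])
    exact sq_eq_zero_iff.mp h4
  refine ⟨X, hX, Y, hY, hXY, hvX, hvY, ?_, hzero⟩
  rw [← Finset.sum_sdiff hsub, Finset.sum_eq_zero (s := s \ {X, Y}) fun i hi => by
    simp only [Finset.mem_sdiff, Finset.mem_insert, Finset.mem_singleton, not_or] at hi
    rw [hzero i hi.1 hi.2.1 hi.2.2, zero_mul], Finset.sum_pair hXY, hvX, hvY] at hdeg
  omega

/-- A family of norm two vectors with positive mutual products has a common point. -/
theorem exists_common_point {ι κ : Type*} (s : Finset ι) (d : ι → ℕ) (hd : ∀ i ∈ s, 0 < d i)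
    (v : κ → ι → ℤ) (K : Set κ) (hn : ∀ k ∈ K, ∑ i ∈ s, v k i ^ 2 = 2)
    (hdeg : ∀ k ∈ K, ∑ i ∈ s, v k i * (d i : ℤ) = 0)
    (hin : ∀ k ∈ K, ∀ l ∈ K, 1 ≤ ∑ i ∈ s, v k i * v l i) {j : κ} (hj : j ∈ K) :
    ∃ W ∈ s, v j W ≠ 0 ∧ ∀ k ∈ K, v k W = v j W := by
  classical
  obtain ⟨X, hX, Y, hY, hXY, hjX, hjY, hdXY, hzero⟩ := two_points s (v j) d hd (hn j hj) (hdeg j hj)
  have hsub : ({X, Y} : Finset ι) ⊆ s := Finset.insert_subset hX (Finset.singleton_subset_iff.mpr hY)
  have hcase : ∀ k ∈ K, (v k X = 1 ∨ v k Y = -1) ∧ v k X ^ 2 ≤ 1 ∧ v k Y ^ 2 ≤ 1 := by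
    intro k hk
    have h := hin k hk j hj
    rw [← Finset.sum_sdiff hsub, Finset.sum_eq_zero (s := s \ {X, Y}) fun i hi => by
      simp only [Finset.mem_sdiff, Finset.mem_insert, Finset.mem_singleton, not_or] at hi
      rw [hzero i hi.1 hi.2.1 hi.2.2, mul_zero], Finset.sum_pair hXY, hjX, hjY] at h
    have h2 := Finset.sum_sdiff hsub (f := fun i => v k i ^ 2)
    rw [Finset.sum_pair hXY, hn k hk] at h2
    have h3 : 0 ≤ ∑ i ∈ s \ {X, Y}, v k i ^ 2 := Finset.sum_nonneg fun i _ => sq_nonneg _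
    have hx1 : v k X ≤ 1 := by nlinarith [sq_nonneg (v k Y)]
    have hx2 : -1 ≤ v k X := by nlinarith [sq_nonneg (v k Y)]
    have hy1 : v k Y ≤ 1 := by nlinarith [sq_nonneg (v k X)]
    have hy2 : -1 ≤ v k Y := by nlinarith [sq_nonneg (v k X)]
    refine ⟨by omega, by nlinarith, by nlinarith⟩
  by_cases hall : ∀ k ∈ K, v k X = 1
  · exact ⟨X, hX, by rw [hjX]; decide, fun k hk => by rw [hall k hk, hjX]⟩
  push Not at hall
  obtain ⟨k, hk, hkX⟩ := hall
  refine ⟨Y, hY, by rw [hjY]; decide, fun l hl => ?_⟩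
  rw [hjY]
  by_contra hlY
  have hkY : v k Y = -1 := (hcase k hk).1.resolve_left hkX
  have hlX : v l X = 1 := (hcase l hl).1.resolve_right hlY
  have hi1 := hin k hk j hj
  have hi2 := hin l hl j hj
  rw [← Finset.sum_sdiff hsub, Finset.sum_eq_zero (s := s \ {X, Y}) fun i hi => by
    simp only [Finset.mem_sdiff, Finset.mem_insert, Finset.mem_singleton, not_or] at hi
    rw [hzero i hi.1 hi.2.1 hi.2.2, mul_zero], Finset.sum_pair hXY, hjX, hjY] at hi1 hi2
  -- values on `X` and `Y`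
  have hkX' : v k X = 0 ∨ v k X = -1 := by
    have h1 := (hcase k hk).2.1
    have : v k X ≤ 1 := by nlinarith
    have : -1 ≤ v k X := by nlinarith
    omega
  have hlY' : v l Y = 0 ∨ v l Y = 1 := by
    have h1 := (hcase l hl).2.2
    have : v l Y ≤ 1 := by nlinarith
    have : -1 ≤ v l Y := by nlinarith
    omega
  have hk0 : v k X = 0 := by omega
  have hl0 : v l Y = 0 := by omega
  set r := s \ {X, Y} with hr
  have hk2 := Finset.sum_sdiff hsub (f := fun i => v k i ^ 2)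
  have hl2 := Finset.sum_sdiff hsub (f := fun i => v l i ^ 2)
  have hkl := Finset.sum_sdiff hsub (f := fun i => v k i * v l i)
  rw [Finset.sum_pair hXY, hn k hk, hk0, hkY] at hk2
  rw [Finset.sum_pair hXY, hn l hl, hlX, hl0] at hl2
  rw [Finset.sum_pair hXY, hk0, hkY, hlX, hl0] at hkl
  have h1 := hin k hk l hl
  rw [← hkl] at h1
  have hdiff : ∑ i ∈ r, (v k i - v l i) ^ 2 = 0 := by
    refine le_antisymm ?_ (Finset.sum_nonneg fun i _ => sq_nonneg _)
    have e : ∀ i ∈ r, (v k i - v l i) ^ 2 = v k i ^ 2 + v l i ^ 2 - 2 * (v k i * v l i) :=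
      fun i _ => by ring
    rw [Finset.sum_congr rfl e, Finset.sum_sub_distrib, Finset.sum_add_distrib, ← Finset.mul_sum]
    linarith
  have heq : ∀ i ∈ r, v k i = v l i := fun i hi =>
    sub_eq_zero.mp (sq_eq_zero_iff.mp
      ((Finset.sum_eq_zero_iff_of_nonneg fun i _ => sq_nonneg (v k i - v l i)).mp hdiff i hi))
  have hdk := hdeg k hk
  have hdl := hdeg l hl
  rw [← Finset.sum_sdiff hsub, Finset.sum_pair hXY, hk0, hkY] at hdk
  rw [← Finset.sum_sdiff hsub, Finset.sum_pair hXY, hlX, hl0,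
    Finset.sum_congr rfl fun i hi => by rw [← heq i hi]] at hdl
  have := hd X hX
  have := hd Y hY
  omega

/-- The numerical contradiction for Sylow order at least `p ^ 2`. -/
theorem false_of_big {p q e d : ℕ} (hp : 3 ≤ p) (hq : p * p ≤ q) (he : e ≤ p - 1)
    (hd : q ≤ d + (1 + e))
    (h : (((p : ℝ) - 2) * d) ^ 2 + ((p : ℝ) * e) ^ 2 + 2 * ((p : ℝ) - 1) ^ 2 ≤
      2 * ((p : ℝ) - 1) * q * e) : False := by
  have hp' : (3 : ℝ) ≤ p := by exact_mod_cast hp
  have hq' : (p : ℝ) * p ≤ q := by exact_mod_cast hq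
  have hd' : (q : ℝ) - p ≤ d := by
    have : q ≤ d + p := by omega
    have : (q : ℝ) ≤ d + p := by exact_mod_cast this
    linarith
  have hqp : 0 ≤ (q : ℝ) - p := by nlinarith
  have key : ((p : ℝ) - 1) * q ≤ ((p : ℝ) - 2) * ((q : ℝ) - p) * p := by
    have h1 : (0 : ℝ) ≤ (p : ℝ) * p * (((p : ℝ) - 1) * ((p : ℝ) - 3)) :=
      mul_nonneg (by positivity) (mul_nonneg (by linarith) (by linarith))
    nlinarith [mul_le_mul_of_nonneg_left hq' (by nlinarith : (0 : ℝ) ≤ (p : ℝ) * p - 3 * p + 1)]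
  have h0 : 0 ≤ ((p : ℝ) - 1) * q := by nlinarith
  have h1 : (((p : ℝ) - 1) * q) ^ 2 ≤ (((p : ℝ) - 2) * d * p) ^ 2 := by
    refine pow_le_pow_left₀ h0 (key.trans ?_) 2
    exact mul_le_mul_of_nonneg_right (mul_le_mul_of_nonneg_left hd' (by linarith)) (by linarith)
  have h2 : 0 ≤ (((p : ℝ) - 1) * q - (p : ℝ) * p * e) ^ 2 := sq_nonneg _
  have h3 := mul_le_mul_of_nonneg_left h (sq_nonneg (p : ℝ))
  nlinarith [pow_pos (mul_pos (by linarith : (0 : ℝ) < (p : ℝ) - 1) (by linarith : (0 : ℝ) < (p : ℝ))) 2]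

/-- The numerical contradiction for Sylow order `p`. -/
theorem false_of_prime {p e : ℕ} (hp : p.Prime) (he2 : 2 ≤ e) (hep : e + 2 ≤ p) {S : ℝ}
    (hS : S < e) (h : (p : ℝ) * e - p ≤ ((e : ℝ) + 3) / 2 * S) : False := by
  have he : (2 : ℝ) ≤ e := by exact_mod_cast he2
  have hp5 : e = 2 → 5 ≤ p := fun h2 => by
    by_contra h5
    have h4 : p = 4 := by omega
    exact absurd (h4 ▸ hp) (by norm_num)
  have h1 : ((e : ℝ) + 3) / 2 * S < ((e : ℝ) + 3) / 2 * e := mul_lt_mul_of_pos_left hS (by linarith)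
  rcases Nat.eq_or_lt_of_le he2 with h2 | h2
  · have := hp5 h2.symm
    have h5 : (5 : ℝ) ≤ p := by exact_mod_cast this
    rw [← h2] at h1 h
    push_cast at h1 h
    linarith
  · have h3 : (3 : ℝ) ≤ e := by exact_mod_cast h2
    have h4 : (e : ℝ) + 2 ≤ p := by exact_mod_cast hep
    nlinarith [mul_le_mul_of_nonneg_right h4 (by linarith : (0 : ℝ) ≤ (e : ℝ) - 1)]

end Cfsg.Agent.Components.CyclicPairs
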