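import Mathlib
import Cfsg.Prelude.Def_Transfer
import Cfsg.Agent.Lib.PLocal.Cores
import Cfsg.Agent.Lib.Transfer.NormalPComplement

/-!
Fusion and centralizers for a cyclic Sylow p-subgroup.
-/

set_option autoImplicit false
set_option linter.all false

namespace Cfsg.Agent.Components.CyclicPairs

open Subgroup Cfsg.Agent.PLocal.Cores Cfsg.Agent.Transfer.NormalPComplement

/-- In a cyclic group, an element whose order divides that of `x` is a power of `x`. -/
theorem mem_zpowers_of_orderOf_dvd {Q : Type*} [Group Q] [Finite Q] [IsCyclic Q] {x y : Q}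
    (h : orderOf y ∣ orderOf x) : y ∈ zpowers x := by
  classical
  letI := Fintype.ofFinite Q
  have hsub : (Finset.univ.filter fun z : Q => z ∈ zpowers x) ⊆
      Finset.univ.filter fun z : Q => z ^ orderOf x = 1 := by
    intro z hz
    obtain ⟨k, rfl⟩ := (Finset.mem_filter.mp hz).2
    exact Finset.mem_filter.mpr ⟨Finset.mem_univ _,
      orderOf_dvd_iff_pow_eq_one.mp (orderOf_dvd_of_mem_zpowers ⟨k, rfl⟩)⟩
  have hcard := Finset.eq_of_subset_of_card_le hsub (by
    refine (IsCyclic.card_pow_eq_one_le (orderOf_pos x)).trans (le_of_eq ?_)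
    rw [← Nat.card_zpowers, Nat.card_eq_fintype_card, Fintype.card_subtype])
  have hy : y ∈ Finset.univ.filter fun z : Q => z ^ orderOf x = 1 :=
    Finset.mem_filter.mpr ⟨Finset.mem_univ _, orderOf_dvd_iff_pow_eq_one.mp h⟩
  rw [← hcard] at hy
  exact (Finset.mem_filter.mp hy).2

/-- An automorphism of order prime to `p` of a cyclic `p`-group fixing a non-trivial element is
trivial. -/
theorem mulAut_eq_one {p : ℕ} [hp : Fact p.Prime] {Q : Type*} [Group Q] [Finite Q] [IsCyclic Q]
    (hQ : IsPGroup p Q) (a : MulAut Q) (ha : ¬ p ∣ orderOf a) {u : Q} (hu : u ≠ 1)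
    (hau : a u = u) : a = 1 := by
  obtain ⟨r, hr⟩ := MonoidHom.map_cyclic a.toMonoidHom
  have hr' : ∀ y : Q, a y = y ^ r := hr
  obtain ⟨k, hk⟩ := IsPGroup.iff_card.mp hQ
  -- `r ≡ 1` modulo `p`
  obtain ⟨i, hi⟩ := IsPGroup.iff_orderOf.mp hQ u
  have hi0 : i ≠ 0 := fun h => hu (by rw [h, pow_zero] at hi; exact orderOf_eq_one_iff.mp hi)
  have hr1 : (p : ℤ) ∣ r - 1 := by
    have h1 : u ^ (r - 1) = 1 := by rw [zpow_sub_one, ← hr', hau, mul_inv_cancel]
    rw [← orderOf_dvd_iff_zpow_eq_one, hi] at h1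
    refine dvd_trans ?_ h1
    exact_mod_cast dvd_pow_self p hi0
  have hiter : ∀ (m : ℕ) (y : Q), (a ^ m) y = y ^ (r ^ m) := by
    intro m
    induction m with
    | zero => intro y; simp
    | succ m ih =>
      intro y
      rw [pow_succ', MulAut.mul_apply, ih, hr', ← zpow_mul, pow_succ]
  have hpow : a ^ p ^ k = 1 := by
    refine MulEquiv.ext fun y => ?_
    rw [hiter, MulAut.one_apply]
    have h2 := dvd_sub_pow_of_dvd_sub hr1 k
    rw [one_pow] at h2
    have h3 : y ^ (r ^ p ^ k - 1) = 1 := by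
      rw [← orderOf_dvd_iff_zpow_eq_one]
      refine dvd_trans ?_ h2
      have h4 : orderOf y ∣ p ^ (k + 1) :=
        (orderOf_dvd_natCard y).trans (hk ▸ pow_dvd_pow p (Nat.le_succ k))
      exact_mod_cast h4
    rw [← sub_add_cancel (r ^ p ^ k) 1, zpow_add, h3, one_mul, zpow_one]
  obtain ⟨j, -, hj⟩ := (Nat.dvd_prime_pow hp.out).mp (orderOf_dvd_of_pow_eq_one hpow)
  rcases Nat.eq_zero_or_pos j with h | h
  · rw [h, pow_zero] at hj; exact orderOf_eq_one_iff.mp hj
  · exact absurd (hj ▸ dvd_pow_self p h.ne') ha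

/-- The index of `O_{p'}` in a group with a normal `p`-complement is the order of a Sylow subgroup. -/
theorem index_pPrimeCore {p : ℕ} [hp : Fact p.Prime] {H : Type*} [Group H] [Finite H]
    (h : Cfsg.HasNormalPComplement p H) (S : Sylow p H) :
    (Cfsg.pPrimeCore p H).index = Nat.card S := by
  obtain ⟨k, hk⟩ := hasNormalPComplement_iff_pPrimeCore.mp h
  rw [hk, S.card_eq_multiplicity, ← (Cfsg.pPrimeCore p H).card_mul_index, hk,
    Nat.factorization_mul Nat.card_pos.ne' (pow_ne_zero _ hp.out.ne_zero), Finsupp.add_apply,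
    hp.out.factorization_pow, Finsupp.single_eq_same,
    Nat.factorization_eq_zero_of_not_dvd (not_dvd_card_pPrimeCore hp.out.ne_one), zero_add]

variable {G : Type*} [Group G] [Finite G] {p : ℕ} [hp : Fact p.Prime]

/-- The automorphisms induced on `P` by its normalizer. -/
abbrev autImage (P : Subgroup G) : Subgroup (MulAut P) := P.normalizerMonoidHom.range

@[simp] theorem normHom_apply {H : Subgroup G} (n : normalizer (H : Set G)) (u : H) :
    ((H.normalizerMonoidHom n u : H) : G) = (n : G) * u * (n : G)⁻¹ := rfl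

theorem not_dvd_card_autImage (P : Sylow p G) [IsCyclic (P : Subgroup G)] :
    ¬ p ∣ Nat.card (autImage (P : Subgroup G)) := by
  set N := normalizer ((P : Subgroup G) : Set G) with hN
  have hle : (P : Subgroup G).subgroupOf N ≤ (P : Subgroup G).normalizerMonoidHom.ker := by
    rw [Subgroup.normalizerMonoidHom_ker]
    intro g hg
    rw [mem_subgroupOf, mem_centralizer_iff]
    intro z hz
    letI := IsCyclic.commGroup (α := (P : Subgroup G))
    exact congrArg Subtype.val (mul_comm (⟨z, hz⟩ : (P : Subgroup G)) ⟨_, hg⟩)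
  intro hd
  rw [← Subgroup.index_ker] at hd
  refine P.not_dvd_index (hd.trans ((Subgroup.index_dvd_of_le hle).trans ?_))
  rw [← relIndex, ← Subgroup.relIndex_mul_index (le_normalizer : (P : Subgroup G) ≤ N)]
  exact dvd_mul_right _ _

theorem autImage_eq_one (P : Sylow p G) [IsCyclic (P : Subgroup G)]
    {a : MulAut (P : Subgroup G)} (ha : a ∈ autImage (P : Subgroup G)) {u : (P : Subgroup G)}
    (hu : u ≠ 1) (hau : a u = u) : a = 1 := by
  refine mulAut_eq_one P.isPGroup' a (fun hd => not_dvd_card_autImage P (hd.trans ?_)) hu hau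
  have := orderOf_dvd_natCard (⟨a, ha⟩ : autImage (P : Subgroup G))
  rwa [Subgroup.orderOf_mk] at this

theorem autImage_injOn (P : Sylow p G) [IsCyclic (P : Subgroup G)] {u : (P : Subgroup G)}
    (hu : u ≠ 1) :
    Function.Injective fun a : autImage (P : Subgroup G) => (a : MulAut (P : Subgroup G)) u := by
  rintro ⟨a, ha⟩ ⟨b, hb⟩ h
  have h1 : b⁻¹ * a = 1 := autImage_eq_one P (mul_mem (inv_mem hb) ha) hu (by
    rw [MulAut.mul_apply, show a u = b u from h]
    exact b.symm_apply_apply u)
  exact Subtype.ext (inv_mul_eq_one.mp h1).symm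

/-- Fusion in `P` is induced by the normalizer. -/
theorem isConj_iff_autImage (P : Sylow p G) [IsCyclic (P : Subgroup G)]
    (u v : (P : Subgroup G)) :
    IsConj (u : G) (v : G) ↔ ∃ a ∈ autImage (P : Subgroup G), a u = v := by
  constructor
  · intro h
    obtain ⟨c, hc⟩ := isConj_iff.mp h
    haveI : IsMulCommutative (P : Subgroup G) := by
      letI := IsCyclic.commGroup (α := (P : Subgroup G))
      exact ⟨⟨mul_comm⟩⟩
    have hmem : c * (u : G) * c⁻¹ ∈ (P : Subgroup G) := hc ▸ v.2
    obtain ⟨n, hn, hn'⟩ := Sylow.conj_eq_normalizer_conj_of_mem P (u : G) c⁻¹ u.2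
      (by rwa [inv_inv])
    refine ⟨_, ⟨(⟨n, hn⟩⁻¹ : normalizer ((P : Subgroup G) : Set G)), rfl⟩, Subtype.ext ?_⟩
    rw [inv_inv] at hn'
    rw [← hc, hn', normHom_apply]
    simp
  · rintro ⟨_, ⟨n, rfl⟩, h⟩
    exact isConj_iff.mpr ⟨n, by rw [← h, normHom_apply]⟩

/-- The centralizer of a non-trivial element of `P` has a normal `p`-complement. -/
theorem centralizer_hasNormalPComplement (P : Sylow p G) [IsCyclic (P : Subgroup G)]
    (u : (P : Subgroup G)) (hu : u ≠ 1) :
    Cfsg.HasNormalPComplement p (centralizer ({(u : G)} : Set G)) := by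
  have hPC : (P : Subgroup G) ≤ centralizer ({(u : G)} : Set G) := fun z hz => by
    letI := IsCyclic.commGroup (α := (P : Subgroup G))
    exact mem_centralizer_singleton_iff.mpr
      (congrArg Subtype.val (mul_comm (⟨z, hz⟩ : (P : Subgroup G)) u))
  refine hasNormalPComplement_of_normalizer_le_centralizer (P.subtype hPC) fun n hn => ?_
  have hnN : (n : G) ∈ normalizer ((P : Subgroup G) : Set G) := by
    intro z
    constructor
    · intro hz
      exact (hn ⟨z, hPC hz⟩).mp hz
    · intro hz
      have hzC : z ∈ centralizer ({(u : G)} : Set G) := by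
        have := mul_mem (mul_mem (inv_mem n.2) (hPC hz)) n.2
        simpa [mul_assoc] using this
      exact (hn ⟨z, hzC⟩).mpr hz
  have h1 : (P : Subgroup G).normalizerMonoidHom ⟨n, hnN⟩ = 1 := by
    refine autImage_eq_one P ⟨_, rfl⟩ hu (Subtype.ext ?_)
    have h := mem_centralizer_singleton_iff.mp n.2
    rw [normHom_apply]
    simp [h]
  rw [mem_centralizer_iff]
  rintro ⟨z, hz⟩ hzP
  refine Subtype.ext ?_
  have := congrArg Subtype.val (DFunLike.congr_fun h1 ⟨z, hzP⟩)
  simp only [MulAut.one_apply] at this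
  exact (mul_inv_eq_iff_eq_mul.mp ((normHom_apply _ _).symm.trans this)).symm

theorem index_centralizer_core (P : Sylow p G) [IsCyclic (P : Subgroup G)]
    (u : (P : Subgroup G)) (hu : u ≠ 1) :
    (Cfsg.pPrimeCore p (centralizer ({(u : G)} : Set G))).index = Nat.card (P : Subgroup G) := by
  have hPC : (P : Subgroup G) ≤ centralizer ({(u : G)} : Set G) := fun z hz => by
    letI := IsCyclic.commGroup (α := (P : Subgroup G))
    exact mem_centralizer_singleton_iff.mpr
      (congrArg Subtype.val (mul_comm (⟨z, hz⟩ : (P : Subgroup G)) u))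
  rw [index_pPrimeCore (centralizer_hasNormalPComplement P u hu) (P.subtype hPC)]
  exact Nat.card_congr (Subgroup.subgroupOfEquivOfLe hPC).toEquiv

open scoped Classical in
/-- The number of automorphisms is at most `p - 1`. -/
theorem card_autImage_le (P : Sylow p G) [IsCyclic (P : Subgroup G)] {x : (P : Subgroup G)}
    (hx : orderOf x = p) : Nat.card (autImage (P : Subgroup G)) ≤ p - 1 := by
  letI := Fintype.ofFinite (P : Subgroup G)
  have hx1 : x ≠ 1 := fun h => hp.out.ne_one (by rw [← hx, h, orderOf_one])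
  have hmem : ∀ a : autImage (P : Subgroup G),
      (a : MulAut (P : Subgroup G)) x ∈ (Finset.univ.filter fun z => z ∈ zpowers x).erase 1 := by
    intro a
    refine Finset.mem_erase.mpr ⟨fun h => hx1 ((map_eq_one_iff _
      (MulEquiv.injective _)).mp h), Finset.mem_filter.mpr ⟨Finset.mem_univ _, ?_⟩⟩
    exact mem_zpowers_of_orderOf_dvd (MulEquiv.orderOf_eq _ x).dvd
  refine (Nat.card_le_card_of_injective (fun a => (⟨_, hmem a⟩ :
    {z // z ∈ (Finset.univ.filter fun z => z ∈ zpowers x).erase 1})) fun a b h =>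
      autImage_injOn P hx1 (congrArg Subtype.val h)).trans (le_of_eq ?_)
  rw [Nat.card_eq_fintype_card, Fintype.card_coe, Finset.card_erase_of_mem (by simp [one_mem]),
    ← Fintype.card_subtype, ← Nat.card_eq_fintype_card, Nat.card_zpowers, hx]

/-- Without a normal `p`-complement some element of the normalizer acts non-trivially. -/
theorem two_le_card_autImage (P : Sylow p G) [IsCyclic (P : Subgroup G)]
    (h : ¬ Cfsg.HasNormalPComplement p G) : 2 ≤ Nat.card (autImage (P : Subgroup G)) := by
  by_contra hlt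
  have h1 : Nat.card (autImage (P : Subgroup G)) = 1 := by
    have := Nat.card_pos (α := autImage (P : Subgroup G)); omega
  refine h (hasNormalPComplement_of_normalizer_le_centralizer P fun n hn => ?_)
  have h2 : (P : Subgroup G).normalizerMonoidHom ⟨n, hn⟩ = 1 :=
    (Subgroup.mem_bot.mp ((Subgroup.eq_bot_of_card_eq _ h1) ▸ ⟨_, rfl⟩))
  have h3 : (⟨n, hn⟩ : normalizer ((P : Subgroup G) : Set G)) ∈
      (P : Subgroup G).normalizerMonoidHom.ker := h2
  rw [Subgroup.normalizerMonoidHom_ker] at h3
  exact h3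

end Cfsg.Agent.Components.CyclicPairs
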