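import Mathlib
import Cfsg.Prelude.Def_Local
import Cfsg.Prelude.Def_Blocks
import Cfsg.Agent.Lib.PLocal.PSolvable
import Cfsg.Agent.Lib.PLocal.Cores
import Cfsg.Agent.Lib.Blocks.Orthogonality
import Cfsg.Agent.Lib.Components.CyclicPairs.Auto

/-!
Pairs of elements of order p generating p-solvable subgroups, for a cyclic Sylow p-subgroup.
-/

set_option autoImplicit false
set_option linter.all false

namespace Cfsg.Agent.Components.CyclicPairs

open Subgroup Cfsg.Agent.PLocal.Cores Cfsg.Agent.PLocal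

/-- Two elements of order `p` with the same image modulo a normal `p'`-subgroup are conjugate. -/
theorem isConj_of_map_eq {H : Type*} [Group H] [Finite H] {p : ℕ} [hp : Fact p.Prime]
    {K : Subgroup H} [K.Normal] (hK : ¬ p ∣ Nat.card K) {a u : H} (ha : orderOf a = p)
    (hu : orderOf u = p) (h : QuotientGroup.mk' K u = QuotientGroup.mk' K a) : IsConj u a := by
  set π := QuotientGroup.mk' K with hπ
  have hπa : orderOf (π a) = p := by
    refine ((Nat.dvd_prime hp.out).mp (ha ▸ orderOf_map_dvd π a)).resolve_left fun h1 => ?_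
    have hmem : a ∈ K := (QuotientGroup.eq_one_iff a).mp (orderOf_eq_one_iff.mp h1)
    exact hK (ha ▸ Subgroup.orderOf_dvd_natCard K hmem)
  set L := (zpowers (π a)).comap π with hL
  have haL : a ∈ L := mem_zpowers (π a)
  have huL : u ∈ L := by rw [hL, mem_comap, h]; exact mem_zpowers _
  have hcard : Nat.card L = Nat.card K * p := by
    rw [hL, Cores.card_comap_eq _ (QuotientGroup.mk'_surjective K), hπ, QuotientGroup.ker_mk',
      Nat.card_zpowers, hπa]
  have hfac : p ^ (Nat.card L).factorization p = p := by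
    rw [hcard, Nat.factorization_mul Nat.card_pos.ne' hp.out.ne_zero, Finsupp.add_apply,
      Nat.factorization_eq_zero_of_not_dvd hK, zero_add, hp.out.factorization_self, pow_one]
  have hz : ∀ z : L, orderOf (z : H) = p → Nat.card (zpowers z) = p ^ (Nat.card L).factorization p :=
    fun z hz => by rw [hfac, Nat.card_zpowers, ← Subgroup.orderOf_coe z, hz]
  set S := Sylow.ofCard (zpowers (⟨a, haL⟩ : L)) (hz _ ha) with hS
  set T := Sylow.ofCard (zpowers (⟨u, huL⟩ : L)) (hz _ hu) with hT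
  obtain ⟨g, hg⟩ := MulAction.exists_smul_eq L S T
  have hmem : (⟨u, huL⟩ : L) ∈ (T : Subgroup L) := mem_zpowers _
  rw [← hg, Sylow.coe_subgroup_smul, Subgroup.mem_pointwise_smul_iff_inv_smul_mem] at hmem
  obtain ⟨r, hr⟩ := (show g⁻¹ * (⟨u, huL⟩ : L) * g ∈ zpowers (⟨a, haL⟩ : L) by
    simpa [hS, MulAut.smul_def] using hmem)
  have hr' : a ^ r = (g : H)⁻¹ * u * g := by simpa using congrArg Subtype.val hr
  obtain ⟨s, hs⟩ := (g.2 : (g : H) ∈ (zpowers (π a)).comap π)
  have e : π a ^ r = π a := by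
    rw [← map_zpow, hr', map_mul, map_mul, map_inv, h, ← show π a ^ s = π g from hs]
    group
  have hd : orderOf (π a) = orderOf a := hπa.trans ha.symm
  have h2 : a ^ r = a ^ (1 : ℤ) := by
    rw [zpow_eq_zpow_iff_modEq, ← hd, ← zpow_eq_zpow_iff_modEq, e, zpow_one]
  rw [zpow_one, hr'] at h2
  exact isConj_iff.mpr ⟨(g : H)⁻¹, by rw [inv_inv]; exact h2⟩

variable {G : Type*} [Group G] [Finite G] {p : ℕ} [hp : Fact p.Prime]

/-- For two elements `a, b` of order `p` generating a `p`-solvable group there is `r` such that the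
`p`-part of `a ^ l b ^ l'` is conjugate to `a ^ (l + r l')`. -/
theorem exists_ratio (P : Sylow p G) [IsCyclic (P : Subgroup G)] {a b : G}
    (ha : orderOf a = p) (hb : orderOf b = p)
    (hsol : Cfsg.IsPSolvable p ↥(Subgroup.closure ({a, b} : Set G))) :
    ∃ r : ℕ, ¬ p ∣ r ∧ ∀ l l' : ℕ, ∀ u : G, Cfsg.IsPPart p (a ^ l * b ^ l') u →
      IsConj u (a ^ (l + r * l')) := by
  set H := Subgroup.closure ({a, b} : Set G) with hH
  set K := Cfsg.pPrimeCore p ↥H with hK
  haveI : K.Normal := pPrimeCore_normal'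
  have hKp : ¬ p ∣ Nat.card K := not_dvd_card_pPrimeCore hp.out.ne_one
  set π := QuotientGroup.mk' K with hπ
  have hπs := QuotientGroup.mk'_surjective K
  obtain ⟨T⟩ := (inferInstance : Nonempty (Sylow p ↥H))
  -- `T` is cyclic
  haveI hTc : IsCyclic (T : Subgroup ↥H) := by
    obtain ⟨Q, hQ⟩ := (T.isPGroup'.map H.subtype).exists_le_sylow
    haveI : IsCyclic (Q : Subgroup G) := (P.equiv Q).isCyclic.mp inferInstance
    haveI := Subgroup.isCyclic_of_le hQ
    exact ((T : Subgroup ↥H).equivMapOfInjective H.subtype H.subtype_injective).isCyclic.mpr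
      inferInstance
  set S := T.mapSurjective hπs with hS
  haveI hSc : IsCyclic (S : Subgroup (↥H ⧸ K)) :=
    isCyclic_of_surjective (π.subgroupMap (T : Subgroup ↥H)) (π.subgroupMap_surjective _)
  have hO : (S : Subgroup (↥H ⧸ K)) ≤ Cfsg.pCore p (↥H ⧸ K) := by
    refine le_trans (fun s hs => ?_) (PSolvable.centralizer_pCore_le pPrimeCore_quotient_pPrimeCore
      (PSolvable.subgroup (PSolvable.quotient hsol K) _))
    letI := IsCyclic.commGroup (α := (S : Subgroup (↥H ⧸ K)))
    exact mem_centralizer_iff.mpr fun t ht => congrArg Subtype.val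
      (mul_comm (⟨t, pCore_le_sylow S ht⟩ : (S : Subgroup (↥H ⧸ K))) ⟨s, hs⟩)
  haveI : IsCyclic (Cfsg.pCore p (↥H ⧸ K)) := Subgroup.isCyclic_of_le (pCore_le_sylow S)
  have hord : ∀ z : ↥H, orderOf z = p → orderOf (π z) = p := by
    intro z hz
    refine ((Nat.dvd_prime hp.out).mp (hz ▸ orderOf_map_dvd π z)).resolve_left fun h1 => ?_
    have hmem : z ∈ K := (QuotientGroup.eq_one_iff z).mp (orderOf_eq_one_iff.mp h1)
    exact hKp (hz ▸ Subgroup.orderOf_dvd_natCard K hmem)
  have hmemO : ∀ z : ↥H, orderOf z = p → π z ∈ Cfsg.pCore p (↥H ⧸ K) := by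
    intro z hz
    have hzp : IsPGroup p (zpowers (π z)) :=
      IsPGroup.of_card (n := 1) (by rw [Nat.card_zpowers, hord z hz, pow_one])
    obtain ⟨S', hS'⟩ := hzp.exists_le_sylow
    obtain ⟨c, hc⟩ := MulAction.exists_smul_eq (↥H ⧸ K) S S'
    have := hS' (mem_zpowers (π z))
    rw [← hc, Sylow.coe_subgroup_smul, Subgroup.mem_pointwise_smul_iff_inv_smul_mem] at this
    have h3 := (Cfsg.Agent.PLocal.Cores.pCore_normal' (p := p)).conj_mem _ (hO this) c
    simpa [MulAut.smul_def, mul_assoc] using h3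
  set a' : ↥H := ⟨a, subset_closure (Set.mem_insert _ _)⟩ with ha'
  set b' : ↥H := ⟨b, subset_closure (Set.mem_insert_of_mem _ rfl)⟩ with hb'
  have haH : orderOf a' = p := by rw [← Subgroup.orderOf_coe]; exact ha
  have hbH : orderOf b' = p := by rw [← Subgroup.orderOf_coe]; exact hb
  have hb2 := mem_zpowers_of_orderOf_dvd
    (x := (⟨π a', hmemO a' haH⟩ : Cfsg.pCore p (↥H ⧸ K))) (y := ⟨π b', hmemO b' hbH⟩)
    (by simp only [Subgroup.orderOf_mk, hord a' haH, hord b' hbH, dvd_refl])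
  rw [← mem_powers_iff_mem_zpowers] at hb2
  obtain ⟨r, hr⟩ := hb2
  have hr' : π a' ^ r = π b' := by simpa using congrArg Subtype.val hr
  refine ⟨r, fun hd => ?_, fun l l' u hu => ?_⟩
  · have h1 := hord b' hbH
    rw [← hr', (orderOf_dvd_iff_pow_eq_one).mp ((hord a' haH).symm ▸ hd), orderOf_one] at h1
    exact hp.out.ne_one h1.symm
  set z : ↥H := a' ^ l * b' ^ l' with hz
  obtain ⟨v, hv⟩ := Blocks.exists_ppart hp.out z
  obtain ⟨y, hy1, hy2, ⟨k, hk⟩, hy4⟩ := hv
  have huv : u = (v : G) := by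
    refine Blocks.ppart_unique hp.out hu ⟨(y : G), ?_, ?_, ⟨k, ?_⟩, ?_⟩
    · have h1 := congrArg Subtype.val hy1
      simpa [hz, ha', hb'] using h1
    · exact hy2.map H.subtype
    · rw [← hk, Subgroup.orderOf_coe]
    · rwa [Subgroup.orderOf_coe]
  set m := l + r * l' with hm
  have hzm : π z = π (a' ^ m) := by
    rw [hz, map_mul, map_pow, map_pow, ← hr', ← pow_mul, ← pow_add, map_pow]
  have hπy : π y = 1 := by
    have h1 : orderOf (π v * π y) ∣ p := by
      rw [← map_mul, hy1, hzm, map_pow]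
      exact (orderOf_pow_dvd m).trans (hord a' haH).dvd
    obtain ⟨i, -, hi⟩ := (Nat.dvd_prime_pow hp.out).mp (hk ▸ orderOf_map_dvd π v)
    have hy5 : ¬ p ∣ orderOf (π y) := fun hd => hy4 (hd.trans (orderOf_map_dvd π y))
    rw [(hy2.map π).orderOf_mul_eq_mul_orderOf_of_coprime (by
      rw [hi]; exact Nat.Coprime.pow_left i (hp.out.coprime_iff_not_dvd.mpr hy5))] at h1
    exact orderOf_eq_one_iff.mp (((Nat.dvd_prime hp.out).mp
      ((dvd_mul_left _ _).trans h1)).resolve_right fun h => hy5 h.symm.dvd)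
  have hvm : π v = π (a' ^ m) := by rw [← hzm, ← hy1, map_mul, hπy, mul_one]
  -- `π` is injective on `⟨v⟩`
  have hinj : ∀ j : ℕ, π v ^ j = 1 → v ^ j = 1 := by
    intro j hj
    rw [← map_pow] at hj
    have hmem : v ^ j ∈ K := (QuotientGroup.eq_one_iff _).mp hj
    obtain ⟨i, -, hi⟩ := (Nat.dvd_prime_pow hp.out).mp (hk ▸ orderOf_pow_dvd (x := v) j)
    rcases Nat.eq_zero_or_pos i with h | h
    · rw [h, pow_zero] at hi; exact orderOf_eq_one_iff.mp hi
    · exact absurd ((dvd_pow_self p h.ne').trans (hi ▸ Subgroup.orderOf_dvd_natCard K hmem)) hKp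
  have hfin : IsConj v (a' ^ m) := by
    by_cases hm0 : p ∣ m
    · have h1 : a' ^ m = 1 := orderOf_dvd_iff_pow_eq_one.mp (haH.symm ▸ hm0)
      rw [h1] at hvm ⊢
      have h2 := hinj 1 (by rw [pow_one, hvm, map_one])
      rw [pow_one] at h2
      rw [h2]
    · have ham : orderOf (a' ^ m) = p := by
        rw [orderOf_pow' _ (fun h : m = 0 => hm0 (h ▸ dvd_zero p)), haH,
          Nat.Coprime.gcd_eq_one (hp.out.coprime_iff_not_dvd.mpr hm0), Nat.div_one]
      have hv' : orderOf (π v) = orderOf v :=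
        Nat.dvd_antisymm (orderOf_map_dvd π v)
          (orderOf_dvd_of_pow_eq_one (hinj _ (pow_orderOf_eq_one _)))
      refine isConj_of_map_eq hKp ham ?_ hvm
      rw [← hv', hvm]
      exact hord _ ham
  rw [huv]
  have := H.subtype.map_isConj hfin
  simpa [ha', hm] using this

end Cfsg.Agent.Components.CyclicPairs
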