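import Mathlib
import Cfsg.Prelude.Def_Transfer
import Cfsg.Agent.Lib.Characters.Counting
import Cfsg.Agent.Lib.Components.PairCount.Section
import Cfsg.Agent.Lib.Components.CyclicPairs.Auto
import Cfsg.Agent.Lib.Components.CyclicPairs.Pairs
import Cfsg.Agent.S0925
import Cfsg.Agent.S0947

/-!
Orthogonality and the pair equation on the principal block for a cyclic Sylow p-subgroup.
-/

set_option autoImplicit false
set_option linter.all false

namespace Cfsg.Agent.Components.CyclicPairs

open Cfsg.Agent.Characters Cfsg.Agent.PLocal.Cores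
open scoped ComplexConjugate

universe u

variable {G : Type u} [Group G] [Finite G] {p : ℕ} [hp : Fact p.Prime] {M : Ideal Cfsg.AlgInt}

open scoped Classical in
/-- The members of the principal block as a finset. -/
noncomputable def blockSet (M : Ideal Cfsg.AlgInt) (G : Type u) [Group G] [Finite G] :
    Finset (Cfsg.IrrCharacter G) :=
  haveI := Fintype.ofFinite (Cfsg.IrrCharacter G)
  Finset.univ.filter fun χ => χ ∈ Cfsg.principalBlock M G

theorem mem_blockSet {χ : Cfsg.IrrCharacter G} :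
    χ ∈ blockSet M G ↔ χ ∈ Cfsg.principalBlock M G := by
  classical
  simp [blockSet]

theorem exists_pow_orderOf (P : Sylow p G) (u : (P : Subgroup G)) :
    ∃ k : ℕ, orderOf (u : G) = p ^ k := by
  obtain ⟨k, hk⟩ := IsPGroup.iff_orderOf.mp P.isPGroup' u
  exact ⟨k, by rw [Subgroup.orderOf_coe]; exact hk⟩

theorem isPPart_self (P : Sylow p G) (u : (P : Subgroup G)) : Cfsg.IsPPart p (u : G) (u : G) :=
  ⟨1, mul_one _, Commute.one_right _, exists_pow_orderOf P u,
    by rw [orderOf_one]; exact hp.out.not_dvd_one⟩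

open scoped Classical in
theorem sum_blockSet [Fintype (Cfsg.IrrCharacter G)] (f : Cfsg.IrrCharacter G → ℂ) :
    ∑ χ ∈ blockSet M G, f χ =
      ∑ χ : Cfsg.IrrCharacter G, if χ ∈ Cfsg.principalBlock M G then f χ else 0 := by
  rw [← Finset.sum_filter]
  exact Finset.sum_congr (Finset.ext fun χ => by simp [mem_blockSet]) fun _ _ => rfl

open scoped Classical in
/-- Column orthogonality on the principal block. -/
theorem orth (hM : Cfsg.IsPModular p M) (P : Sylow p G) [IsCyclic (P : Subgroup G)]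
    (u v : (P : Subgroup G)) (hu : u ≠ 1) :
    ∑ χ ∈ blockSet M G, (χ : G → ℂ) u * conj ((χ : G → ℂ) v) =
      if IsConj (u : G) (v : G) then (Nat.card (P : Subgroup G) : ℂ) else 0 := by
  haveI := Fintype.ofFinite (Cfsg.IrrCharacter G)
  rw [sum_blockSet]
  split
  · next h =>
    obtain ⟨g, hg⟩ := isConj_iff.mp h
    have e : ∀ χ : Cfsg.IrrCharacter G, (χ : G → ℂ) v = (χ : G → ℂ) u := fun χ => by
      rw [← hg, irr_isClassFunction χ (u : G) g]
    obtain ⟨n, hn⟩ := IsPGroup.iff_card.mp P.isPGroup'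
    have hidx := index_centralizer_core P u hu
    haveI : (Cfsg.pPrimeCore p (Subgroup.centralizer ({(u : G)} : Set G))).Normal :=
      pPrimeCore_normal'
    have h' := (S0947.result p M hM (u : G) (exists_pow_orderOf P u)
      (fun h1 => hu (Subtype.ext h1)) 1 (by rw [orderOf_one]; exact hp.out.not_dvd_one)).2
      ⟨n, hidx.trans hn⟩
    have hfac : p ^ (Nat.card ↥(Subgroup.centralizer ({(u : G)} : Set G))).factorization p =
        Nat.card (P : Subgroup G) := by
      rw [← (Cfsg.pPrimeCore p (Subgroup.centralizer ({(u : G)} : Set G))).card_mul_index, hidx,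
        Nat.factorization_mul Nat.card_pos.ne' Nat.card_pos.ne', Finsupp.add_apply,
        Nat.factorization_eq_zero_of_not_dvd (not_dvd_card_pPrimeCore hp.out.ne_one), zero_add, hn,
        hp.out.factorization_pow, Finsupp.single_eq_same]
    rw [hfac, finsum_mem_def, finsum_eq_sum_of_fintype] at h'
    simp only [Set.indicator_apply, Subgroup.coe_one, mul_one] at h'
    rw [← Complex.ofReal_natCast, ← h', Complex.ofReal_sum]
    refine Finset.sum_congr rfl fun χ _ => ?_
    split
    · rw [e, Complex.mul_conj', Complex.ofReal_pow]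
    · simp
  · next h =>
    have h' := (S0925.result p M hM).2 (u : G) (v : G) (u : G) (v : G) (isPPart_self P u)
      (isPPart_self P v) h _ (Blocks.isPBlock_principal M _)
    rw [finsum_mem_def, finsum_eq_sum_of_fintype] at h'
    simp only [Set.indicator_apply] at h'
    refine Eq.trans (Finset.sum_congr rfl fun χ _ => ?_) h'
    rw [char_inv (irr_isCharacter χ)]

open scoped Classical in
/-- The inner product of the indicator of the section of `v` with an irreducible character. -/
theorem classInner_section [Fintype G] (hM : Cfsg.IsPModular p M) (P : Sylow p G)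
    [IsCyclic (P : Subgroup G)] (v : (P : Subgroup G)) (hv : v ≠ 1) (χ : Cfsg.IrrCharacter G) :
    Cfsg.classInner (fun g : G => if ∃ u, Cfsg.IsPPart p g u ∧ IsConj (v : G) u then 1 else 0)
        (χ : G → ℂ) =
      if χ ∈ Cfsg.principalBlock M G then conj ((χ : G → ℂ) v) / Nat.card (P : Subgroup G)
      else 0 := by
  set θ := Cfsg.pPrimeCore p (Subgroup.centralizer ({(v : G)} : Set G)) with hθdef
  haveI : θ.Normal := pPrimeCore_normal'
  letI := Fintype.ofFinite θ
  have hθ : ¬ p ∣ Nat.card θ := not_dvd_card_pPrimeCore hp.out.ne_one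
  obtain ⟨n, hn⟩ := IsPGroup.iff_card.mp P.isPGroup'
  have hidx : θ.index = Nat.card (P : Subgroup G) := index_centralizer_core P v hv
  have hidx' : ∃ k : ℕ, θ.index = p ^ k := ⟨n, hidx.trans hn⟩
  have hx := exists_pow_orderOf P v
  have h3 := PairCount.sum_section_conj (φ := fun g => conj ((χ : G → ℂ) g)) hp.out hx (θ := θ) hθ
    hidx' (fun g k => by simp only; rw [irr_isClassFunction χ g k])
  rw [← map_sum, PairCount.section_value hM hx hθ hidx' χ] at h3
  have hCcard : (Nat.card ↥(Subgroup.centralizer ({(v : G)} : Set G)) : ℂ) =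
      (Nat.card θ : ℂ) * (Nat.card (P : Subgroup G) : ℂ) := by
    rw [← θ.card_mul_index, hidx, Nat.cast_mul]
  rw [hCcard] at h3
  have hθ0 : (Nat.card θ : ℂ) ≠ 0 := natCard_ne_zero
  have hq0 : (Nat.card (P : Subgroup G) : ℂ) ≠ 0 := natCard_ne_zero
  have hG0 : (Nat.card G : ℂ) ≠ 0 := natCard_ne_zero
  rw [classInner_def, inv_mul_eq_iff_eq_mul₀ hG0]
  refine mul_left_cancel₀ (mul_ne_zero hθ0 hq0) (Eq.trans ?_ (h3.trans ?_))
  · exact congrArg _ (Finset.sum_congr rfl fun g _ => by split <;> simp)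
  · split
    · rw [map_mul, map_natCast]; field_simp
    · simp

/-- The multiplicity of `1` as an eigenvalue of an element of order `p`. -/
theorem exists_fix_mult {x : G} (hx : orderOf x = p) (χ : Cfsg.IrrCharacter G) :
    ∃ m : ℕ, ∑ j : ZMod p, (χ : G → ℂ) (x ^ j.val) = (p : ℂ) * m := by
  classical
  letI := Fintype.ofFinite (Subgroup.zpowers x)
  obtain ⟨m, hm⟩ := classInner_char_nat
    (isCharacter_restrict (Subgroup.zpowers x) (irr_isCharacter χ))
    (irr_isCharacter (trivIrr (Subgroup.zpowers x)))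
  refine ⟨m, ?_⟩
  rw [classInner_def, inv_mul_eq_iff_eq_mul₀ natCard_ne_zero, Nat.card_zpowers, hx] at hm
  rw [← hm]
  have hinj : Function.Injective fun j : ZMod p =>
      (⟨x ^ j.val, Subgroup.npow_mem_zpowers x j.val⟩ : Subgroup.zpowers x) := fun i j h => by
    refine ZMod.val_injective p (pow_injOn_Iio_orderOf ?_ ?_ (congrArg Subtype.val h)) <;>
      simp [hx, ZMod.val_lt]
  refine Fintype.sum_bijective _ ((Fintype.bijective_iff_injective_and_card _).mpr ⟨hinj, ?_⟩)
    _ _ fun j => by simp [trivIrr]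
  rw [ZMod.card, ← Nat.card_eq_fintype_card, Nat.card_zpowers, hx]

open scoped Classical in
/-- For `v ∈ P#` of order `p` the powers of `x` conjugate to `v` are as many as the automorphisms. -/
theorem card_conj_pow (P : Sylow p G) [IsCyclic (P : Subgroup G)] {x : (P : Subgroup G)}
    (hx : orderOf x = p) (v : (P : Subgroup G)) (hv : v ≠ 1) :
    (Finset.univ.filter fun j : ZMod p => IsConj (v : G) ((x ^ j.val : (P : Subgroup G)) : G)).card =
      if v ^ p = 1 then Nat.card (autImage (P : Subgroup G)) else 0 := by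
  letI := Fintype.ofFinite (P : Subgroup G)
  letI := Fintype.ofFinite (autImage (P : Subgroup G))
  split
  · next h =>
    have hvp : orderOf v = p := orderOf_eq_prime h hv
    have hinj : Function.Injective fun j : ZMod p => x ^ j.val := fun i j h => by
      refine ZMod.val_injective p (pow_injOn_Iio_orderOf ?_ ?_ h) <;> simp [hx, ZMod.val_lt]
    rw [← Finset.card_image_of_injective _ hinj, Nat.card_eq_fintype_card, ← Finset.card_univ,
      ← Finset.card_image_of_injective Finset.univ (autImage_injOn P hv)]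
    congr 1
    ext w
    simp only [Finset.mem_image, Finset.mem_filter, Finset.mem_univ, true_and]
    constructor
    · rintro ⟨j, hj, rfl⟩
      obtain ⟨a, ha, ha'⟩ := (isConj_iff_autImage P v _).mp hj
      exact ⟨⟨a, ha⟩, ha'⟩
    · rintro ⟨⟨a, ha⟩, ha'⟩
      have hw : orderOf w = p := by rw [← ha', MulEquiv.orderOf_eq]; exact hvp
      obtain ⟨i, hi⟩ := (mem_powers_iff_mem_zpowers.mpr
        (mem_zpowers_of_orderOf_dvd (x := x) (y := w) (by rw [hw, hx])))
      have hmod : x ^ (i % p) = w := by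
        have h2 := pow_mod_orderOf x i
        rw [hx] at h2
        exact h2.trans hi
      refine ⟨(i : ZMod p), ?_, ?_⟩
      · rw [ZMod.val_natCast, hmod]
        exact (isConj_iff_autImage P v w).mpr ⟨a, ha, ha'⟩
      · rw [ZMod.val_natCast]; exact hmod
  · next h =>
    rw [Finset.card_eq_zero, Finset.filter_eq_empty_iff]
    intro j _ hj
    obtain ⟨a, ha, ha'⟩ := (isConj_iff_autImage P v _).mp hj
    refine h ((map_eq_one_iff a a.injective).mp ?_)
    rw [map_pow, ha', ← pow_mul, mul_comm, pow_mul,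
      show x ^ p = 1 from orderOf_dvd_iff_pow_eq_one.mp hx.dvd, one_pow]

open scoped Classical in
/-- The pair equation. -/
theorem basic_equation (hM : Cfsg.IsPModular p M) (P : Sylow p G) [IsCyclic (P : Subgroup G)]
    (hc : ∀ a b : G, orderOf a = p → orderOf b = p →
      Cfsg.IsPSolvable p ↥(Subgroup.closure ({a, b} : Set G)))
    {x : (P : Subgroup G)} (hx : orderOf x = p) {d m : Cfsg.IrrCharacter G → ℕ}
    (hd : ∀ χ : Cfsg.IrrCharacter G, (χ : G → ℂ) 1 = (d χ : ℂ))
    (hm : ∀ χ : Cfsg.IrrCharacter G, ∑ j : ZMod p, (χ : G → ℂ) ((x : G) ^ j.val) = (p : ℂ) * m χ)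
    (v : (P : Subgroup G)) {l : ℕ} (hl : ¬ p ∣ l) :
    ∑ χ ∈ blockSet M G, conj ((χ : G → ℂ) v) * (χ : G → ℂ) ((x : G) ^ l) * ((p : ℂ) * m χ / d χ) =
      if v ^ p = 1 then (Nat.card (P : Subgroup G) : ℂ) * Nat.card (autImage (P : Subgroup G))
      else 0 := by
  have hd0 : ∀ χ : Cfsg.IrrCharacter G, (d χ : ℂ) ≠ 0 := fun χ => by
    rw [← hd χ]; exact irr_one_ne_zero χ.2
  by_cases hv : v = 1
  · subst hv
    rw [if_pos (one_pow p)]
    have hxl : x ^ l ≠ 1 := fun h => hl (hx ▸ orderOf_dvd_of_pow_eq_one h)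
    have h1 : ∀ χ : Cfsg.IrrCharacter G,
        conj ((χ : G → ℂ) ((1 : (P : Subgroup G)) : G)) * (χ : G → ℂ) ((x : G) ^ l) *
          ((p : ℂ) * m χ / d χ) =
        ∑ j : ZMod p, (χ : G → ℂ) ((x ^ l : (P : Subgroup G)) : G) *
          conj ((χ : G → ℂ) ((x ^ j.val : (P : Subgroup G)) : G)) := by
      intro χ
      simp only [SubgroupClass.coe_pow, Subgroup.coe_one]
      rw [← Finset.mul_sum, ← map_sum, hm χ, hd χ, map_mul, map_natCast, map_natCast, map_natCast]
      field_simp [hd0 χ]
    rw [Finset.sum_congr rfl fun χ _ => h1 χ, Finset.sum_comm,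
      Finset.sum_congr rfl fun j _ => orth hM P (x ^ l) (x ^ j.val) hxl, ← Finset.sum_filter,
      Finset.sum_const, card_conj_pow P hx (x ^ l) hxl,
      if_pos (by rw [← pow_mul, mul_comm, pow_mul, show x ^ p = 1 from orderOf_dvd_iff_pow_eq_one.mp hx.dvd, one_pow]), nsmul_eq_mul]
    ring
  letI := Fintype.ofFinite G
  haveI := Fintype.ofFinite (Cfsg.IrrCharacter G)
  set φ : G → ℂ := fun g => if ∃ u, Cfsg.IsPPart p g u ∧ IsConj (v : G) u then 1 else 0 with hφ
  have hiff : ∀ g u : G, Cfsg.IsPPart p g u →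
      ((∃ u, Cfsg.IsPPart p g u ∧ IsConj (v : G) u) ↔ IsConj (v : G) u) := fun g u hu =>
    ⟨fun ⟨u', hu', h⟩ => Blocks.ppart_unique hp.out hu' hu ▸ h, fun h => ⟨u, hu, h⟩⟩
  have hφcl : Cfsg.IsClassFunction G φ := by
    intro g k
    simp only [hφ]
    obtain ⟨u, hu⟩ := Blocks.exists_ppart hp.out g
    obtain ⟨y, hy1, hy2, ⟨i, hi⟩, hy4⟩ := id hu
    have hu' : Cfsg.IsPPart p (k * g * k⁻¹) (k * u * k⁻¹) :=
      ⟨k * y * k⁻¹, by rw [← hy1]; group, hy2.map (MulAut.conj k).toMonoidHom,
        ⟨i, by rw [← hi]; exact MulEquiv.orderOf_eq (MulAut.conj k) u⟩,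
        by rw [show orderOf (k * y * k⁻¹) = orderOf y from MulEquiv.orderOf_eq (MulAut.conj k) y]
           exact hy4⟩
    refine if_congr ?_ rfl rfl
    rw [hiff _ _ hu, hiff _ _ hu']
    exact ⟨fun h => h.trans (isConj_iff.mpr ⟨k, rfl⟩).symm, fun h => h.trans (isConj_iff.mpr ⟨k, rfl⟩)⟩
  have hxG : orderOf (x : G) = p := by rw [Subgroup.orderOf_coe]; exact hx
  -- counting
  have hL : ∑ j : ZMod p, ∑ h : G, φ ((x : G) ^ l * (h * (x : G) ^ j.val * h⁻¹)) =
      (Nat.card G : ℂ) * (if v ^ p = 1 then (Nat.card (autImage (P : Subgroup G)) : ℂ) else 0) := by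
    have hper : ∀ h : G, ∑ j : ZMod p, φ ((x : G) ^ l * (h * (x : G) ^ j.val * h⁻¹)) =
        ∑ i : ZMod p, if IsConj (v : G) ((x ^ i.val : (P : Subgroup G)) : G) then (1 : ℂ) else 0 := by
      intro h
      have hb : orderOf (h * (x : G) * h⁻¹) = p :=
        (MulEquiv.orderOf_eq (MulAut.conj h) (x : G)).trans hxG
      obtain ⟨r, hr, hr'⟩ := exists_ratio P hxG hb (hc _ _ hxG hb)
      have hr0 : (r : ZMod p) ≠ 0 := fun h0 => hr ((ZMod.natCast_eq_zero_iff r p).mp h0)
      refine Fintype.sum_bijective (fun j : ZMod p => (l : ZMod p) + (r : ZMod p) * j)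
        (((Equiv.addLeft (l : ZMod p)).bijective).comp (mulLeft_bijective₀ _ hr0)) _ _ fun j => ?_
      simp only [hφ]
      obtain ⟨u, hu⟩ := Blocks.exists_ppart hp.out ((x : G) ^ l * (h * (x : G) ^ j.val * h⁻¹))
      refine if_congr ((hiff _ _ hu).trans ?_) rfl rfl
      have hu' := hr' l j.val u (by rwa [conj_pow])
      have he : ((x ^ ((l : ZMod p) + (r : ZMod p) * j).val : (P : Subgroup G)) : G) =
          (x : G) ^ (l + r * j.val) := by
        rw [SubgroupClass.coe_pow, show (l : ZMod p) + (r : ZMod p) * j =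
          ((l + r * j.val : ℕ) : ZMod p) by simp, ZMod.val_natCast]
        have h2 := pow_mod_orderOf (x : G) (l + r * j.val)
        rw [hxG] at h2
        exact h2
      rw [he]
      exact ⟨fun h => h.trans hu', fun h => h.trans hu'.symm⟩
    rw [Finset.sum_comm, Finset.sum_congr rfl fun h _ => hper h, Finset.sum_const, Finset.card_univ,
      ← Finset.sum_filter, Finset.sum_const, nsmul_eq_mul, nsmul_eq_mul, mul_one,
      Nat.card_eq_fintype_card (α := G)]
    congr 1
    rw [show (Finset.univ.filter fun i : ZMod p =>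
      IsConj (v : G) ((x ^ i.val : (P : Subgroup G)) : G)).card = _ by convert card_conj_pow P hx v hv]
    split <;> simp
  -- expansion
  have hR : ∑ j : ZMod p, ∑ h : G, φ ((x : G) ^ l * (h * (x : G) ^ j.val * h⁻¹)) =
      (Nat.card G : ℂ) / Nat.card (P : Subgroup G) * ∑ χ ∈ blockSet M G,
        conj ((χ : G → ℂ) v) * (χ : G → ℂ) ((x : G) ^ l) * ((p : ℂ) * m χ / d χ) := by
    have h2 := classFun_eq_sum hφcl
    have h3 : ∀ j : ZMod p, ∑ h : G, φ ((x : G) ^ l * (h * (x : G) ^ j.val * h⁻¹)) =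
        ∑ χ : Cfsg.IrrCharacter G, Cfsg.classInner φ (χ : G → ℂ) *
          ((Nat.card G : ℂ) * (χ : G → ℂ) ((x : G) ^ l) * (χ : G → ℂ) ((x : G) ^ j.val) / d χ) := by
      intro j
      rw [Finset.sum_congr rfl fun h _ => congrFun h2 _]
      simp only [Finset.sum_apply, Pi.smul_apply, smul_eq_mul]
      rw [Finset.sum_comm]
      refine Finset.sum_congr rfl fun χ _ => ?_
      rw [← Finset.mul_sum, sum_mul_conjugates χ.2, hd χ]
    rw [Finset.sum_congr rfl fun j _ => h3 j, Finset.sum_comm, sum_blockSet, Finset.mul_sum]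
    refine Finset.sum_congr rfl fun χ _ => ?_
    rw [← Finset.mul_sum, ← Finset.sum_div, ← Finset.mul_sum, hm χ, hφ,
      classInner_section hM P v hv χ]
    split
    · ring
    · simp
  have hG0 : (Nat.card G : ℂ) ≠ 0 := natCard_ne_zero
  have hq0 : (Nat.card (P : Subgroup G) : ℂ) ≠ 0 := natCard_ne_zero
  have key := hR.symm.trans hL
  rw [div_mul_eq_mul_div, div_eq_iff hq0, mul_assoc] at key
  rw [mul_left_cancel₀ hG0 key]
  split <;> simp [mul_comm]

end Cfsg.Agent.Components.CyclicPairs
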