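import Mathlib
import Cfsg.Agent.Lib.Characters.Kernel
import Cfsg.Agent.Lib.Components.CyclicPairs.Equation

/-!
Sums over the principal block involving the fixed point multiplicity of an element of order p.
-/

set_option autoImplicit false
set_option linter.all false

namespace Cfsg.Agent.Components.CyclicPairs

open Cfsg.Agent.Characters
open scoped ComplexConjugate

universe u

variable {G : Type u} [Group G] [Finite G] {p : ℕ} [hp : Fact p.Prime] {M : Ideal Cfsg.AlgInt}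

theorem triv_mem_blockSet (hM : Cfsg.IsPModular p M) : trivIrr G ∈ blockSet M G :=
  mem_blockSet.mpr (Blocks.trivIrr_mem_principal hM)

/-- In a simple group a non-trivial irreducible character is faithful. -/
theorem eq_one_of_value_eq [IsSimpleGroup G] {χ : Cfsg.IrrCharacter G} (hχ : χ ≠ trivIrr G)
    {g : G} (h : (χ : G → ℂ) g = (χ : G → ℂ) 1) : g = 1 := by
  letI := Fintype.ofFinite G
  rcases (charKernel_normal (irr_isCharacter χ)).eq_bot_or_eq_top with hK | hK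
  · exact Subgroup.mem_bot.mp (hK ▸ (mem_charKernel.2 h : g ∈ charKernel _ (irr_isCharacter χ)))
  exfalso
  have hconst : ∀ y : G, (χ : G → ℂ) y = (χ : G → ℂ) 1 := fun y =>
    mem_charKernel.1 (hK ▸ Subgroup.mem_top y)
  have h0 : Cfsg.classInner (χ : G → ℂ) (trivIrr G : G → ℂ) = 0 := by
    rw [classInner_irr, if_neg hχ]
  rw [classInner_def, Finset.sum_congr rfl fun y _ => by rw [hconst y]] at h0
  simp [trivIrr, natCard_ne_zero, irr_one_ne_zero χ.2] at h0

variable (P : Sylow p G) [hPc : IsCyclic (P : Subgroup G)] {x : (P : Subgroup G)}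
  {d m : Cfsg.IrrCharacter G → ℕ}

theorem d_pos (hd : ∀ χ : Cfsg.IrrCharacter G, (χ : G → ℂ) 1 = (d χ : ℂ))
    (χ : Cfsg.IrrCharacter G) : 0 < d χ :=
  Nat.pos_of_ne_zero fun h => irr_one_ne_zero χ.2 (by rw [hd χ, h, Nat.cast_zero])

theorem d_triv (hd : ∀ χ : Cfsg.IrrCharacter G, (χ : G → ℂ) 1 = (d χ : ℂ)) : d (trivIrr G) = 1 := by
  have h := hd (trivIrr G)
  simp only [trivIrr] at h
  exact_mod_cast h.symm

theorem m_triv (hm : ∀ χ : Cfsg.IrrCharacter G,
    ∑ j : ZMod p, (χ : G → ℂ) ((x : G) ^ j.val) = (p : ℂ) * m χ) : m (trivIrr G) = 1 := by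
  have h := hm (trivIrr G)
  simp only [trivIrr, Finset.sum_const, Finset.card_univ, ZMod.card, nsmul_eq_mul, mul_one] at h
  have h2 : (m (trivIrr G) : ℂ) = 1 :=
    (mul_left_cancel₀ (Nat.cast_ne_zero.mpr hp.out.ne_zero) ((mul_one _).trans h)).symm
  exact_mod_cast h2

open scoped Classical in
include hPc in
theorem sum_col_one (hM : Cfsg.IsPModular p M)
    (hd : ∀ χ : Cfsg.IrrCharacter G, (χ : G → ℂ) 1 = (d χ : ℂ))
    {u : (P : Subgroup G)} (hu : u ≠ 1) :
    ∑ χ ∈ blockSet M G, (χ : G → ℂ) (u : G) * (d χ : ℂ) = 0 := by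
  have h := orth hM P u 1 hu
  rw [if_neg (fun hc : IsConj (u : G) ((1 : (P : Subgroup G)) : G) =>
    hu (Subtype.ext (isConj_one_left.mp hc)))] at h
  refine Eq.trans (Finset.sum_congr rfl fun χ _ => ?_) h
  rw [Subgroup.coe_one, hd χ, map_natCast]

open scoped Classical in
include hPc in
theorem sum_col_fix (hM : Cfsg.IsPModular p M) (hx : orderOf x = p)
    (hm : ∀ χ : Cfsg.IrrCharacter G, ∑ j : ZMod p, (χ : G → ℂ) ((x : G) ^ j.val) = (p : ℂ) * m χ)
    {u : (P : Subgroup G)} (hu : u ≠ 1) :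
    ∑ χ ∈ blockSet M G, (χ : G → ℂ) (u : G) * ((p : ℂ) * m χ) =
      if u ^ p = 1 then (Nat.card (P : Subgroup G) : ℂ) * Nat.card (autImage (P : Subgroup G))
      else 0 := by
  have e : ∀ χ : Cfsg.IrrCharacter G, (χ : G → ℂ) (u : G) * ((p : ℂ) * m χ) =
      ∑ j : ZMod p, (χ : G → ℂ) (u : G) * conj ((χ : G → ℂ) ((x ^ j.val : (P : Subgroup G)) : G)) := by
    intro χ
    simp only [SubgroupClass.coe_pow]
    rw [← Finset.mul_sum, ← map_sum, hm χ, map_mul, map_natCast, map_natCast]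
  rw [Finset.sum_congr rfl fun χ _ => e χ, Finset.sum_comm,
    Finset.sum_congr rfl fun j _ => orth hM P u (x ^ j.val) hu, ← Finset.sum_filter,
    Finset.sum_const, card_conj_pow P hx u hu, nsmul_eq_mul]
  split <;> simp [mul_comm]

omit hPc in
theorem sum_nonzero (hd : ∀ χ : Cfsg.IrrCharacter G, (χ : G → ℂ) 1 = (d χ : ℂ))
    (hm : ∀ χ : Cfsg.IrrCharacter G, ∑ j : ZMod p, (χ : G → ℂ) ((x : G) ^ j.val) = (p : ℂ) * m χ)
    (χ : Cfsg.IrrCharacter G) :
    ∑ j ∈ (Finset.univ : Finset (ZMod p)).erase 0,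
      (χ : G → ℂ) ((x ^ j.val : (P : Subgroup G)) : G) = (p : ℂ) * m χ - d χ := by
  have h := hm χ
  rw [← Finset.add_sum_erase _ _ (Finset.mem_univ (0 : ZMod p))] at h
  simp only [ZMod.val_zero, pow_zero, hd χ] at h
  simp only [SubgroupClass.coe_pow]
  rw [← h]; ring

include hPc in
theorem pow_val_ne_one (hx : orderOf x = p) {j : ZMod p} (hj : j ≠ 0) : x ^ j.val ≠ 1 := fun h => by
  have h1 : p ∣ j.val := hx.symm.dvd.trans (orderOf_dvd_of_pow_eq_one h)
  rw [← ZMod.natCast_eq_zero_iff, ZMod.natCast_zmod_val] at h1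
  exact hj h1

include hPc in
theorem sum_sq_fix (hM : Cfsg.IsPModular p M) (hx : orderOf x = p)
    (hd : ∀ χ : Cfsg.IrrCharacter G, (χ : G → ℂ) 1 = (d χ : ℂ))
    (hm : ∀ χ : Cfsg.IrrCharacter G, ∑ j : ZMod p, (χ : G → ℂ) ((x : G) ^ j.val) = (p : ℂ) * m χ) :
    ∑ χ ∈ blockSet M G, ((p : ℝ) * m χ - d χ) ^ 2 =
      ((p : ℝ) - 1) * (Nat.card (P : Subgroup G) : ℝ) * Nat.card (autImage (P : Subgroup G)) := by
  classical
  have h1 : ∑ χ ∈ blockSet M G, ((p : ℂ) * m χ - d χ) ^ 2 =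
      ∑ j ∈ (Finset.univ : Finset (ZMod p)).erase 0,
        ((Nat.card (P : Subgroup G) : ℂ) * Nat.card (autImage (P : Subgroup G))) := by
    have e : ∀ χ : Cfsg.IrrCharacter G, ((p : ℂ) * m χ - d χ) ^ 2 =
        ∑ j ∈ (Finset.univ : Finset (ZMod p)).erase 0,
          ((χ : G → ℂ) ((x ^ j.val : (P : Subgroup G)) : G) * ((p : ℂ) * m χ) -
            (χ : G → ℂ) ((x ^ j.val : (P : Subgroup G)) : G) * (d χ : ℂ)) := by
      intro χ
      rw [Finset.sum_sub_distrib, ← Finset.sum_mul, ← Finset.sum_mul, sum_nonzero P hd hm χ]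
      ring
    rw [Finset.sum_congr rfl fun χ _ => e χ, Finset.sum_comm]
    refine Finset.sum_congr rfl fun j hj => ?_
    have hne := pow_val_ne_one P hx (Finset.ne_of_mem_erase hj)
    rw [Finset.sum_sub_distrib, sum_col_one P hM hd hne, sum_col_fix P hM hx hm hne,
      if_pos (by rw [← pow_mul, mul_comm, pow_mul,
        show x ^ p = 1 from orderOf_dvd_iff_pow_eq_one.mp hx.dvd, one_pow]), sub_zero]
  rw [Finset.sum_const, Finset.card_erase_of_mem (Finset.mem_univ _), Finset.card_univ, ZMod.card,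
    nsmul_eq_mul, Nat.cast_sub hp.out.one_le, Nat.cast_one, ← mul_assoc] at h1
  exact_mod_cast h1

end Cfsg.Agent.Components.CyclicPairs
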