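import Mathlib
import Cfsg.Agent.Lib.Characters.Kernel
import Cfsg.Agent.Lib.Components.CyclicPairs.Equation

/-!
Multiplicities of the linear characters of a cyclic Sylow subgroup in the principal block.
-/

set_option autoImplicit false
set_option linter.all false

namespace Cfsg.Agent.Components.CyclicPairs

open Cfsg.Agent.Characters
open scoped ComplexConjugate

universe u

variable {G : Type u} [Group G] [Finite G] {p : ℕ} [hp : Fact p.Prime] {M : Ideal Cfsg.AlgInt}
  (P : Sylow p G) [hPc : IsCyclic (P : Subgroup G)]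

include hPc in
theorem comm_sylow (a b : (P : Subgroup G)) : a * b = b * a := by
  letI := IsCyclic.commGroup (α := (P : Subgroup G))
  exact mul_comm a b

include hPc in
theorem irrP_one (lam : Cfsg.IrrCharacter (P : Subgroup G)) :
    (lam : ↥(P : Subgroup G) → ℂ) 1 = 1 :=
  irr_degree_one_of_comm (comm_sylow P) lam.2

include hPc in
theorem irrP_mul (lam : Cfsg.IrrCharacter (P : Subgroup G)) (a b : (P : Subgroup G)) :
    (lam : ↥(P : Subgroup G) → ℂ) (a * b) =
      (lam : ↥(P : Subgroup G) → ℂ) a * (lam : ↥(P : Subgroup G) → ℂ) b :=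
  char_mul_of_degree_one (irr_isCharacter lam) (irrP_one P lam) a b

/-- A linear character of `P` as a homomorphism. -/
noncomputable def irrHom (lam : Cfsg.IrrCharacter (P : Subgroup G)) : ↥(P : Subgroup G) →* ℂ where
  toFun := (lam : ↥(P : Subgroup G) → ℂ)
  map_one' := irrP_one P lam
  map_mul' := irrP_mul P lam

/-- The composite with an automorphism of `P`. -/
noncomputable def compA (a : MulAut (P : Subgroup G)) (lam : Cfsg.IrrCharacter (P : Subgroup G)) :
    Cfsg.IrrCharacter (P : Subgroup G) :=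
  ⟨(irrHom P lam).comp a.toMonoidHom, isIrrCharacter_monoidHom _⟩

theorem compA_apply (a : MulAut (P : Subgroup G)) (lam : Cfsg.IrrCharacter (P : Subgroup G))
    (u : (P : Subgroup G)) :
    (compA P a lam : ↥(P : Subgroup G) → ℂ) u = (lam : ↥(P : Subgroup G) → ℂ) (a u) := rfl

theorem compA_one (lam : Cfsg.IrrCharacter (P : Subgroup G)) :
    compA P (1 : MulAut (P : Subgroup G)) lam = lam :=
  Subtype.ext (funext fun u => rfl)

theorem compA_mul (a b : MulAut (P : Subgroup G)) (lam : Cfsg.IrrCharacter (P : Subgroup G)) :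
    compA P (a * b) lam = compA P b (compA P a lam) :=
  Subtype.ext (funext fun u => rfl)

include hPc in
/-- A non-trivial automorphism fixes only the trivial linear character. -/
theorem eq_triv_of_compA_eq {a : MulAut (P : Subgroup G)} (ha : a ∈ autImage (P : Subgroup G))
    (ha1 : a ≠ 1) {lam : Cfsg.IrrCharacter (P : Subgroup G)} (h : compA P a lam = lam) :
    lam = trivIrr _ := by
  have hinj : Function.Injective fun u : (P : Subgroup G) => a u * u⁻¹ := by
    intro u v huv
    by_contra hne
    refine ha1 (autImage_eq_one P ha (u := v⁻¹ * u) (fun h1 => hne (inv_mul_eq_one.mp h1).symm) ?_)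
    simp only at huv
    letI := IsCyclic.commGroup (α := (P : Subgroup G))
    rw [mul_inv_eq_iff_eq_mul] at huv
    rw [map_mul, map_inv, huv, mul_assoc, inv_mul_cancel_left]
  refine Subtype.ext (funext fun w => ?_)
  obtain ⟨u, hu⟩ := (Finite.injective_iff_surjective.mp hinj) w
  have hu' : a u * u⁻¹ = w := hu
  have h1 : (lam : ↥(P : Subgroup G) → ℂ) (a u) = (lam : ↥(P : Subgroup G) → ℂ) u := by
    rw [← compA_apply, h]
  rw [← hu', irrP_mul, h1, ← irrP_mul, mul_inv_cancel, irrP_one]
  rfl

open scoped Classical in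
include hPc in
theorem inner_irrP [Fintype (P : Subgroup G)] (lam mu : Cfsg.IrrCharacter (P : Subgroup G)) :
    (Nat.card (P : Subgroup G) : ℂ)⁻¹ * ∑ u : (P : Subgroup G),
      (lam : ↥(P : Subgroup G) → ℂ) u * conj ((mu : ↥(P : Subgroup G) → ℂ) u) =
      if lam = mu then 1 else 0 := by
  rw [← classInner_def]
  convert classInner_irr lam mu

open scoped Classical in
include hPc in
theorem sum_fusion [Fintype (P : Subgroup G)] [Fintype (autImage (P : Subgroup G))]
    {u : (P : Subgroup G)} (hu : u ≠ 1) (f : ↥(P : Subgroup G) → ℂ) :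
    ∑ v : (P : Subgroup G), (if IsConj (u : G) (v : G) then f v else 0) =
      ∑ a : autImage (P : Subgroup G), f ((a : MulAut (P : Subgroup G)) u) := by
  rw [← Finset.sum_filter]
  refine (Finset.sum_bij (fun (a : autImage (P : Subgroup G)) _ =>
    (a : MulAut (P : Subgroup G)) u) ?_ ?_ ?_ fun a _ => rfl).symm
  · intro a _
    exact Finset.mem_filter.mpr ⟨Finset.mem_univ _,
      (isConj_iff_autImage P u _).mpr ⟨a, a.2, rfl⟩⟩
  · intro a _ b _ h
    exact autImage_injOn P hu h
  · intro v hv
    obtain ⟨a, ha, ha'⟩ := (isConj_iff_autImage P u v).mp (Finset.mem_filter.mp hv).2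
    exact ⟨⟨a, ha⟩, Finset.mem_univ _, ha'⟩

variable {P}

/-- `b` gives the multiplicities of the linear characters of `P`. -/
def IsMult (P : Sylow p G) (b : Cfsg.IrrCharacter (P : Subgroup G) → Cfsg.IrrCharacter G → ℕ) : Prop :=
  ∀ [Fintype (P : Subgroup G)] (lam : Cfsg.IrrCharacter (P : Subgroup G))
    (χ : Cfsg.IrrCharacter G), Cfsg.classInner (fun u : (P : Subgroup G) => (χ : G → ℂ) (u : G))
    (lam : ↥(P : Subgroup G) → ℂ) = (b lam χ : ℂ)

theorem exists_isMult (P : Sylow p G) :
    ∃ b : Cfsg.IrrCharacter (P : Subgroup G) → Cfsg.IrrCharacter G → ℕ, IsMult P b := by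
  letI := Fintype.ofFinite (P : Subgroup G)
  choose b hb using fun (lam : Cfsg.IrrCharacter (P : Subgroup G)) (χ : Cfsg.IrrCharacter G) =>
    classInner_char_nat (isCharacter_restrict (P : Subgroup G) (irr_isCharacter χ))
      (irr_isCharacter lam)
  refine ⟨b, fun {_} lam χ => ?_⟩
  convert hb lam χ

include hPc in
/-- Pairing a difference of multiplicities with a function on the block. -/
theorem sum_mult [Fintype (P : Subgroup G)]
    {b : Cfsg.IrrCharacter (P : Subgroup G) → Cfsg.IrrCharacter G → ℕ} (hb : IsMult P b)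
    (lam mu : Cfsg.IrrCharacter (P : Subgroup G)) (F : Cfsg.IrrCharacter G → ℂ)
    (s : ↥(P : Subgroup G) → ℂ)
    (hs : ∀ u : (P : Subgroup G), u ≠ 1 →
      ∑ χ ∈ blockSet M G, (χ : G → ℂ) (u : G) * F χ = s u) :
    ∑ χ ∈ blockSet M G, ((b lam χ : ℂ) - (b mu χ : ℂ)) * F χ =
      (Nat.card (P : Subgroup G) : ℂ)⁻¹ * ∑ u : (P : Subgroup G),
        (conj ((lam : ↥(P : Subgroup G) → ℂ) u) - conj ((mu : ↥(P : Subgroup G) → ℂ) u)) * s u := by
  have e : ∀ χ : Cfsg.IrrCharacter G, ((b lam χ : ℂ) - (b mu χ : ℂ)) * F χ =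
      (Nat.card (P : Subgroup G) : ℂ)⁻¹ * ∑ u : (P : Subgroup G),
        (conj ((lam : ↥(P : Subgroup G) → ℂ) u) - conj ((mu : ↥(P : Subgroup G) → ℂ) u)) *
          ((χ : G → ℂ) (u : G) * F χ) := by
    intro χ
    rw [← hb lam χ, ← hb mu χ, classInner_def, classInner_def, ← mul_sub, ← Finset.sum_sub_distrib,
      mul_assoc, Finset.sum_mul]
    exact congrArg _ (Finset.sum_congr rfl fun u _ => by ring)
  rw [Finset.sum_congr rfl fun χ _ => e χ, ← Finset.mul_sum, Finset.sum_comm]
  refine congrArg _ (Finset.sum_congr rfl fun u _ => ?_)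
  rw [← Finset.mul_sum]
  by_cases hu : u = 1
  · subst hu; rw [irrP_one, irrP_one]; simp
  · rw [hs u hu]

include hPc in
theorem sum_mult_conj [Fintype (P : Subgroup G)] [Fintype (autImage (P : Subgroup G))]
    (hM : Cfsg.IsPModular p M)
    {b : Cfsg.IrrCharacter (P : Subgroup G) → Cfsg.IrrCharacter G → ℕ} (hb : IsMult P b)
    (lam mu : Cfsg.IrrCharacter (P : Subgroup G)) {v : (P : Subgroup G)} (hv : v ≠ 1) :
    ∑ χ ∈ blockSet M G, ((b lam χ : ℂ) - (b mu χ : ℂ)) * conj ((χ : G → ℂ) (v : G)) =
      ∑ a : autImage (P : Subgroup G),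
        (conj ((lam : ↥(P : Subgroup G) → ℂ) ((a : MulAut (P : Subgroup G)) v)) -
          conj ((mu : ↥(P : Subgroup G) → ℂ) ((a : MulAut (P : Subgroup G)) v))) := by
  classical
  rw [sum_mult hb lam mu _ (fun u => if IsConj (u : G) (v : G) then
    (Nat.card (P : Subgroup G) : ℂ) else 0) fun u hu => orth hM P u v hu,
    ← sum_fusion P hv fun u => conj ((lam : ↥(P : Subgroup G) → ℂ) u) -
      conj ((mu : ↥(P : Subgroup G) → ℂ) u), Finset.mul_sum]
  refine Finset.sum_congr rfl fun u _ => ?_
  have hq0 : (Nat.card (P : Subgroup G) : ℂ) ≠ 0 := natCard_ne_zero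
  by_cases h : IsConj (u : G) (v : G)
  · rw [if_pos h, if_pos h.symm]; field_simp
  · rw [if_neg h, if_neg (fun h' => h h'.symm)]; simp

open scoped Classical in
include hPc in
/-- Inner products of multiplicity differences. -/
theorem gram [Fintype (autImage (P : Subgroup G))] (hM : Cfsg.IsPModular p M)
    {b : Cfsg.IrrCharacter (P : Subgroup G) → Cfsg.IrrCharacter G → ℕ} (hb : IsMult P b)
    (lam mu nu rho : Cfsg.IrrCharacter (P : Subgroup G)) :
    ∑ χ ∈ blockSet M G, ((b lam χ : ℂ) - (b mu χ : ℂ)) * ((b nu χ : ℂ) - (b rho χ : ℂ)) =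
      ∑ a : autImage (P : Subgroup G),
        (((if compA P (a : MulAut (P : Subgroup G)) nu = lam then (1 : ℂ) else 0) -
            (if compA P (a : MulAut (P : Subgroup G)) nu = mu then 1 else 0)) -
          ((if compA P (a : MulAut (P : Subgroup G)) rho = lam then 1 else 0) -
            (if compA P (a : MulAut (P : Subgroup G)) rho = mu then 1 else 0))) := by
  letI := Fintype.ofFinite (P : Subgroup G)
  rw [sum_mult hb lam mu (fun χ => (b nu χ : ℂ) - (b rho χ : ℂ))
    (fun u => ∑ a : autImage (P : Subgroup G),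
      ((compA P (a : MulAut (P : Subgroup G)) nu : ↥(P : Subgroup G) → ℂ) u -
        (compA P (a : MulAut (P : Subgroup G)) rho : ↥(P : Subgroup G) → ℂ) u)) (fun u hu => ?_)]
  · have e : ∀ a : autImage (P : Subgroup G),
        (((if compA P (a : MulAut (P : Subgroup G)) nu = lam then (1 : ℂ) else 0) -
            (if compA P (a : MulAut (P : Subgroup G)) nu = mu then 1 else 0)) -
          ((if compA P (a : MulAut (P : Subgroup G)) rho = lam then 1 else 0) -
            (if compA P (a : MulAut (P : Subgroup G)) rho = mu then 1 else 0))) =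
        (Nat.card (P : Subgroup G) : ℂ)⁻¹ * ∑ u : (P : Subgroup G),
          (conj ((lam : ↥(P : Subgroup G) → ℂ) u) - conj ((mu : ↥(P : Subgroup G) → ℂ) u)) *
            ((compA P (a : MulAut (P : Subgroup G)) nu : ↥(P : Subgroup G) → ℂ) u -
              (compA P (a : MulAut (P : Subgroup G)) rho : ↥(P : Subgroup G) → ℂ) u) := by
      intro a
      rw [← inner_irrP P, ← inner_irrP P, ← inner_irrP P, ← inner_irrP P, ← mul_sub, ← mul_sub,
        ← mul_sub, ← Finset.sum_sub_distrib, ← Finset.sum_sub_distrib, ← Finset.sum_sub_distrib]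
      exact congrArg _ (Finset.sum_congr rfl fun u _ => by ring)
    refine Eq.trans ?_ (Finset.sum_congr rfl fun a _ => (by convert (e a).symm))
    rw [← Finset.mul_sum, Finset.sum_comm]
    simp only [← Finset.mul_sum]
  · have h := congrArg conj (sum_mult_conj hM hb nu rho hu)
    simp only [map_sum, map_mul, map_sub, map_natCast, Complex.conj_conj] at h
    simp only [compA_apply]
    rw [← h]
    exact Finset.sum_congr rfl fun χ _ => mul_comm _ _

end Cfsg.Agent.Components.CyclicPairs
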