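import Mathlib
import Cfsg.Agent.Lib.Components.CyclicPairs.Arith
import Cfsg.Agent.Lib.Components.CyclicPairs.Common
import Cfsg.Agent.Lib.Components.CyclicPairs.Mult
import Cfsg.Agent.BlockCharsA.DefectZeroVanish

/-!
The case of a Sylow subgroup of order at least p ^ 2.
-/

set_option autoImplicit false
set_option linter.all false

namespace Cfsg.Agent.Components.CyclicPairs

open Cfsg.Agent.Characters
open scoped ComplexConjugate

universe u

variable {G : Type u} [Group G] [Finite G] {p : ℕ} [hp : Fact p.Prime]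

open scoped Classical in
/-- A linear character trivial on an element of order `p` and one non-trivial there, summed over
the elements of order dividing `p`. -/
theorem sum_socle (P : Sylow p G) [IsCyclic (P : Subgroup G)] [Fintype (P : Subgroup G)]
    {x : (P : Subgroup G)} (hx : orderOf x = p) (lam : Cfsg.IrrCharacter (P : Subgroup G)) :
    ∑ u : (P : Subgroup G), (if u ^ p = 1 then conj ((lam : ↥(P : Subgroup G) → ℂ) u) else 0) =
      if (lam : ↥(P : Subgroup G) → ℂ) x = 1 then (p : ℂ) else 0 := by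
  have hinj : Function.Injective fun j : ZMod p => x ^ j.val := fun i j h => by
    refine ZMod.val_injective p (pow_injOn_Iio_orderOf ?_ ?_ h) <;> simp [hx, ZMod.val_lt]
  have himg : (Finset.univ.filter fun u : (P : Subgroup G) => u ^ p = 1) =
      Finset.univ.image fun j : ZMod p => x ^ j.val := by
    ext u
    simp only [Finset.mem_filter, Finset.mem_univ, true_and, Finset.mem_image]
    constructor
    · intro hu
      obtain ⟨i, hi⟩ := mem_powers_iff_mem_zpowers.mpr (mem_zpowers_of_orderOf_dvd (x := x) (y := u)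
        ((orderOf_dvd_of_pow_eq_one hu).trans hx.symm.dvd))
      refine ⟨(i : ZMod p), ?_⟩
      have h2 := pow_mod_orderOf x i
      rw [hx] at h2
      rw [ZMod.val_natCast, h2]; exact hi
    · rintro ⟨j, rfl⟩
      rw [← pow_mul, mul_comm, pow_mul,
        show x ^ p = 1 from orderOf_dvd_iff_pow_eq_one.mp hx.dvd, one_pow]
  rw [← Finset.sum_filter, himg, Finset.sum_image fun i _ j _ h => hinj h]
  have hl : ∀ k : ℕ, (lam : ↥(P : Subgroup G) → ℂ) (x ^ k) =
      (lam : ↥(P : Subgroup G) → ℂ) x ^ k := fun k => map_pow (irrHom P lam) x k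
  set z := (lam : ↥(P : Subgroup G) → ℂ) x with hz
  have hzp : z ^ p = 1 := by
    rw [hz, ← hl, show x ^ p = 1 from orderOf_dvd_iff_pow_eq_one.mp hx.dvd, irrP_one]
  rw [Finset.sum_congr rfl fun j _ => by rw [hl j.val], ← map_sum]
  have hrange : ∑ j : ZMod p, z ^ j.val = ∑ k ∈ Finset.range p, z ^ k := by
    refine Finset.sum_bij (fun j _ => j.val) (fun j _ => Finset.mem_range.mpr (ZMod.val_lt j))
      (fun i _ j _ h => ZMod.val_injective p h)
      (fun k hk => ⟨(k : ZMod p), Finset.mem_univ _, ZMod.val_natCast_of_lt (Finset.mem_range.mp hk)⟩)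
      fun j _ => rfl
  rw [hrange]
  split
  · next h => simp [h]
  · next h => rw [geom_sum_eq h, hzp]; simp

variable [IsSimpleGroup G]

theorem false_of_big_sylow (P : Sylow p G) [IsCyclic (P : Subgroup G)]
    (hq : p * p ≤ Nat.card (P : Subgroup G))
    (he2 : 2 ≤ Nat.card (autImage (P : Subgroup G)))
    (hc : ∀ a b : G, orderOf a = p → orderOf b = p →
      Cfsg.IsPSolvable p ↥(Subgroup.closure ({a, b} : Set G))) : False := by
  classical
  obtain ⟨M, hM⟩ := BlockCharsA.DefectZeroVanish.exists_modular hp.out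
  letI := Fintype.ofFinite (P : Subgroup G)
  letI := Fintype.ofFinite (autImage (P : Subgroup G))
  haveI := Fintype.ofFinite (Cfsg.IrrCharacter (P : Subgroup G))
  obtain ⟨n, hn⟩ := IsPGroup.iff_card.mp P.isPGroup'
  set q := Nat.card (P : Subgroup G) with hqdef
  have hn2 : 2 ≤ n := by
    by_contra hlt
    have h2 : p ^ n ≤ p ^ 1 := Nat.pow_le_pow_right hp.out.pos (by omega)
    have h3 : p < p * p := lt_mul_of_one_lt_right hp.out.pos hp.out.one_lt
    rw [pow_one, ← hn] at h2
    omega
  obtain ⟨g, hg⟩ := IsCyclic.exists_ofOrder_eq_natCard (α := (P : Subgroup G))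
  set x := g ^ p ^ (n - 1) with hxdef
  have hx : orderOf x = p := by
    rw [hxdef, orderOf_pow' _ (pow_ne_zero _ hp.out.ne_zero), hg, ← hqdef, hn,
      Nat.gcd_eq_right (pow_dvd_pow p (by omega)), Nat.pow_div (by omega) hp.out.pos,
      show n - (n - 1) = 1 by omega, pow_one]
  have hx1 : x ≠ 1 := fun h => hp.out.ne_one (by rw [← hx, h, orderOf_one])
  choose d hd using fun χ : Cfsg.IrrCharacter G => (irr_one_pos χ.2).imp fun n h => h.2
  have hxG : orderOf (x : G) = p := by rw [Subgroup.orderOf_coe]; exact hx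
  choose m hm using exists_fix_mult hxG
  obtain ⟨b, hb⟩ := exists_isMult P
  set e := Nat.card (autImage (P : Subgroup G)) with he
  have hele : e ≤ p - 1 := card_autImage_le P hx
  -- the two linear characters
  obtain ⟨lj, hlj, hljx⟩ := exists_irr_ne (G := (P : Subgroup G)) hx1
  set j : Cfsg.IrrCharacter (P : Subgroup G) := ⟨lj, hlj⟩ with hjdef
  have hjx : (j : ↥(P : Subgroup G) → ℂ) x ≠ 1 := fun h => hljx (h.trans (irrP_one P j).symm)
  set i : Cfsg.IrrCharacter (P : Subgroup G) :=
    ⟨((powMonoidHom p).comp (irrHom P j)), isIrrCharacter_monoidHom _⟩ with hidef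
  have hival : ∀ u : (P : Subgroup G),
      (i : ↥(P : Subgroup G) → ℂ) u = (j : ↥(P : Subgroup G) → ℂ) u ^ p := fun u => rfl
  have hjpow : ∀ (u : (P : Subgroup G)) (k : ℕ), (j : ↥(P : Subgroup G) → ℂ) (u ^ k) =
      (j : ↥(P : Subgroup G) → ℂ) u ^ k := fun u k => map_pow (irrHom P j) u k
  have hsoc : ∀ u : (P : Subgroup G), u ^ p = 1 → (i : ↥(P : Subgroup G) → ℂ) u = 1 := by
    intro u hu
    rw [hival, ← hjpow, hu, irrP_one]
  have hxp : x ^ p = 1 := orderOf_dvd_iff_pow_eq_one.mp hx.dvd
  have hi1 : i ≠ trivIrr _ := by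
    intro h
    have h1 : (i : ↥(P : Subgroup G) → ℂ) g = 1 := by rw [h]; rfl
    rw [hival] at h1
    apply hjx
    rw [hxdef, hjpow, show p ^ (n - 1) = p * p ^ (n - 2) by
      rw [← pow_succ']; congr 1; omega, pow_mul, h1, one_pow]
  set K : Set (Cfsg.IrrCharacter (P : Subgroup G)) :=
    {k | k ≠ trivIrr _ ∧ ∀ a : autImage (P : Subgroup G),
      compA P (a : MulAut (P : Subgroup G)) i ≠ k} with hK
  have hiax : ∀ a : autImage (P : Subgroup G),
      (compA P (a : MulAut (P : Subgroup G)) i : ↥(P : Subgroup G) → ℂ) x = 1 := fun a => by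
    rw [compA_apply]
    exact hsoc _ (by rw [← map_pow, hxp, map_one])
  have hjK : j ∈ K := ⟨fun h => hjx (by rw [h]; rfl), fun a h => hjx (by rw [← h]; exact hiax a)⟩
  have hdpos := d_pos hd
  set v : Cfsg.IrrCharacter (P : Subgroup G) → Cfsg.IrrCharacter G → ℤ :=
    fun k χ => (b i χ : ℤ) - (b k χ : ℤ) with hv
  have hvC : ∀ k χ, (v k χ : ℂ) = (b i χ : ℂ) - (b k χ : ℂ) := fun k χ => by simp [hv]
  -- gram matrix
  have hgram : ∀ k ∈ K, ∀ l ∈ K, (∑ χ ∈ blockSet M G, v k χ * v l χ) =
      1 + ((Finset.univ.filter fun a : autImage (P : Subgroup G) =>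
        compA P (a : MulAut (P : Subgroup G)) l = k).card : ℤ) := by
    intro k hk l hl
    have h := gram hM hb i k i l
    rw [Finset.sum_congr rfl fun χ _ => by rw [← hvC k χ, ← hvC l χ]] at h
    have h1 : ∀ a : autImage (P : Subgroup G),
        (compA P (a : MulAut (P : Subgroup G)) i = i ↔ a = 1) := by
      intro a
      refine ⟨fun h => ?_, fun h => by rw [h, Subgroup.coe_one, compA_one]⟩
      by_contra hne
      exact hi1 (eq_triv_of_compA_eq P a.2 (fun h' => hne (Subtype.ext h')) h)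
    have h2 : ∀ a : autImage (P : Subgroup G), compA P (a : MulAut (P : Subgroup G)) i ≠ k :=
      fun a => hk.2 a
    have h3 : ∀ a : autImage (P : Subgroup G), compA P (a : MulAut (P : Subgroup G)) l ≠ i := by
      intro a h'
      refine hl.2 a⁻¹ ?_
      rw [← h', ← compA_mul, ← Subgroup.coe_mul, mul_inv_cancel, Subgroup.coe_one, compA_one]
    simp only [h1, h2, h3, if_false, zero_sub, sub_zero, sub_neg_eq_add] at h
    simp only [Finset.sum_add_distrib, Finset.sum_ite_eq', Finset.mem_univ, if_true] at h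
    rw [Finset.card_filter]
    exact_mod_cast h
  have hnorm : ∀ k ∈ K, ∑ χ ∈ blockSet M G, v k χ ^ 2 = 2 := by
    intro k hk
    have hfil : (Finset.univ.filter fun a : autImage (P : Subgroup G) =>
        compA P (a : MulAut (P : Subgroup G)) k = k) = {1} := by
      ext a
      simp only [Finset.mem_filter, Finset.mem_univ, true_and, Finset.mem_singleton]
      refine ⟨fun h => ?_, fun h => by rw [h, Subgroup.coe_one, compA_one]⟩
      by_contra hne
      exact hk.1 (eq_triv_of_compA_eq P a.2 (fun h' => hne (Subtype.ext h')) h)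
    have h := hgram k hk k hk
    rw [hfil, Finset.card_singleton] at h
    rw [Finset.sum_congr rfl fun χ _ => sq (v k χ), h]; norm_num
  have hdeg : ∀ k ∈ K, ∑ χ ∈ blockSet M G, v k χ * (d χ : ℤ) = 0 := by
    intro k _
    have h := sum_mult hb i k (fun χ => (d χ : ℂ)) (fun _ => 0)
      fun u hu => sum_col_one P hM hd hu
    simp only [mul_zero, Finset.sum_const_zero] at h
    rw [Finset.sum_congr rfl fun χ _ => by rw [← hvC k χ]] at h
    exact_mod_cast h
  obtain ⟨W, hW, hjW, hKW⟩ := exists_common_point (blockSet M G) d (fun χ _ => hdpos χ) v K hnorm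
    hdeg (fun k hk l hl => by rw [hgram k hk l hl]; simp) hjK
  obtain ⟨X, hX, Y, hY, hXY, hjX, hjY, hdXY, hzero⟩ := two_points (blockSet M G) (v j) d
    (fun χ _ => hdpos χ) (hnorm j hjK) (hdeg j hjK)
  have hWXY : d W = d X := by
    by_cases h1 : W = X
    · rw [h1]
    · by_cases h2 : W = Y
      · rw [h2, hdXY]
      · exact absurd (hzero W hW h1 h2) hjW
  -- multiplicities of the trivial character
  have hbtriv : ∀ k : Cfsg.IrrCharacter (P : Subgroup G),
      b k (trivIrr G) = if trivIrr _ = k then 1 else 0 := by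
    intro k
    have h := classInner_irr (trivIrr (P : Subgroup G)) k
    rw [show (trivIrr (P : Subgroup G) : ↥(P : Subgroup G) → ℂ) =
      fun u : ↥(P : Subgroup G) => (trivIrr G : G → ℂ) (u : G) from rfl, hb k (trivIrr G)] at h
    split at h
    · next h' => rw [if_pos h']; exact_mod_cast h
    · next h' => rw [if_neg h']; exact_mod_cast h
  have hvtriv : ∀ k ∈ K, v k (trivIrr G) = 0 := fun k hk => by
    simp only [hv, hbtriv, if_neg (Ne.symm hi1), if_neg (Ne.symm hk.1)]; norm_num
  have hWt : W ≠ trivIrr G := fun h => hjW (by rw [h]; exact hvtriv j hjK)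
  have hXt : X ≠ trivIrr G := fun h => by rw [h, hvtriv j hjK] at hjX; exact zero_ne_one hjX
  have hYt : Y ≠ trivIrr G := fun h => by rw [h, hvtriv j hjK] at hjY; norm_num at hjY
  -- expansion of `W` on `P`
  have hexp : ∀ u : (P : Subgroup G), (W : G → ℂ) (u : G) =
      ∑ k : Cfsg.IrrCharacter (P : Subgroup G), (b k W : ℂ) * (k : ↥(P : Subgroup G) → ℂ) u := by
    intro u
    have h := congrFun (classFun_eq_sum (f := fun u : (P : Subgroup G) => (W : G → ℂ) (u : G))
      (classFun_restrict (P : Subgroup G) (irr_isClassFunction W))) u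
    rw [h, Finset.sum_apply]
    exact Finset.sum_congr rfl fun k _ => by rw [Pi.smul_apply, smul_eq_mul, hb k W]
  have hbconst : ∀ k ∈ K, b k W = b j W := fun k hk => by
    have := hKW k hk
    simp only [hv] at this
    omega
  have hbj : b j W ≠ 0 := by
    intro h0
    refine hx1 (Subtype.ext (eq_one_of_value_eq hWt ?_))
    rw [show (W : G → ℂ) 1 = (W : G → ℂ) ((1 : (P : Subgroup G)) : G) from rfl, hexp, hexp]
    refine Finset.sum_congr rfl fun k _ => ?_
    rw [irrP_one]
    by_cases hk : k ∈ K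
    · rw [hbconst k hk, h0, Nat.cast_zero, zero_mul, zero_mul]
    · have : (k : ↥(P : Subgroup G) → ℂ) x = 1 := by
        simp only [hK, Set.mem_setOf_eq, not_and, not_forall, not_not] at hk
        by_cases hk1 : k = trivIrr _
        · rw [hk1]; rfl
        · obtain ⟨a, ha⟩ := hk hk1
          rw [← ha]; exact hiax a
      rw [this]
  have hdW : q ≤ d W + (1 + e) := by
    have h1 : (d W : ℂ) = ∑ k : Cfsg.IrrCharacter (P : Subgroup G), (b k W : ℂ) := by
      rw [← hd W, show (W : G → ℂ) 1 = (W : G → ℂ) ((1 : (P : Subgroup G)) : G) from rfl, hexp]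
      exact Finset.sum_congr rfl fun k _ => by rw [irrP_one, mul_one]
    have h1' : d W = ∑ k : Cfsg.IrrCharacter (P : Subgroup G), b k W := by exact_mod_cast h1
    have hcount : q = Fintype.card (Cfsg.IrrCharacter (P : Subgroup G)) := by
      rw [← Nat.card_eq_fintype_card, card_irrCharacter, hqdef]
      refine Nat.card_congr (Equiv.ofBijective ConjClasses.mk ⟨fun a c h => ?_, ConjClasses.mk_surjective⟩)
      obtain ⟨t, ht⟩ := isConj_iff.mp (ConjClasses.mk_eq_mk_iff_isConj.mp h)
      rw [← ht, comm_sylow P t a, mul_inv_cancel_right]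
    rw [hcount, ← Finset.card_univ, ← Finset.card_filter_add_card_filter_not
      (s := Finset.univ) (fun k => k ∈ K), h1']
    refine Nat.add_le_add ?_ ?_
    · calc (Finset.univ.filter fun k => k ∈ K).card
          = ∑ k ∈ Finset.univ.filter (fun k => k ∈ K), 1 := by simp
        _ ≤ ∑ k ∈ Finset.univ.filter (fun k => k ∈ K), b k W := Finset.sum_le_sum fun k hk => by
            rw [hbconst k (Finset.mem_filter.mp hk).2]; omega
        _ ≤ _ := Finset.sum_le_sum_of_subset (Finset.filter_subset _ _)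
    · refine (Finset.card_le_card (t := insert (trivIrr _) (Finset.univ.image fun a :
        autImage (P : Subgroup G) => compA P (a : MulAut (P : Subgroup G)) i)) fun k hk => ?_).trans
        ((Finset.card_insert_le _ _).trans ?_)
      · have hk' := (Finset.mem_filter.mp hk).2
        simp only [hK, Set.mem_setOf_eq, not_and, not_forall, not_not] at hk'
        by_cases hk1 : k = trivIrr _
        · rw [hk1]; exact Finset.mem_insert_self _ _
        · obtain ⟨a, ha⟩ := hk' hk1
          exact Finset.mem_insert_of_mem (Finset.mem_image.mpr ⟨a, Finset.mem_univ _, ha⟩)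
      · rw [add_comm 1]
        refine Nat.add_le_add_right (Finset.card_image_le.trans ?_) 1
        rw [Finset.card_univ, ← Nat.card_eq_fintype_card]
  -- pairing with the fixed point multiplicities
  have hsupp : ∀ F : Cfsg.IrrCharacter G → ℂ,
      ∑ χ ∈ blockSet M G, ((b i χ : ℂ) - (b j χ : ℂ)) * F χ = F X - F Y := by
    intro F
    rw [Finset.sum_eq_add_of_mem X Y hX hY hXY fun χ hχ hne => by
      rw [← hvC, hzero χ hχ hne.1 hne.2]; simp, ← hvC, ← hvC, hjX, hjY]
    push_cast; ring
  have hsocsum : ∀ c : ℂ, (q : ℂ)⁻¹ * ∑ u : (P : Subgroup G),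
      (conj ((i : ↥(P : Subgroup G) → ℂ) u) - conj ((j : ↥(P : Subgroup G) → ℂ) u)) *
        (if u ^ p = 1 then (q : ℂ) * c else 0) = (p : ℂ) * c := by
    intro c
    have hq0 : (q : ℂ) ≠ 0 := natCard_ne_zero
    have e1 : ∀ u : (P : Subgroup G),
        (conj ((i : ↥(P : Subgroup G) → ℂ) u) - conj ((j : ↥(P : Subgroup G) → ℂ) u)) *
          (if u ^ p = 1 then (q : ℂ) * c else 0) =
        ((if u ^ p = 1 then conj ((i : ↥(P : Subgroup G) → ℂ) u) else 0) -
          (if u ^ p = 1 then conj ((j : ↥(P : Subgroup G) → ℂ) u) else 0)) * ((q : ℂ) * c) := by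
      intro u; split <;> ring
    rw [Finset.sum_congr rfl fun u _ => e1 u, ← Finset.sum_mul, Finset.sum_sub_distrib,
      sum_socle P hx i, sum_socle P hx j, if_pos (hsoc x hxp), if_neg hjx]
    field_simp
    ring
  set T : Cfsg.IrrCharacter G → ℂ := fun χ => (p : ℂ) * m χ - d χ with hT
  have hcol : ∀ u : (P : Subgroup G), u ≠ 1 → ∑ χ ∈ blockSet M G, (χ : G → ℂ) (u : G) * T χ =
      if u ^ p = 1 then (q : ℂ) * e else 0 := by
    intro u hu
    simp only [hT, mul_sub]
    rw [Finset.sum_sub_distrib, sum_col_fix P hM hx hm hu, sum_col_one P hM hd hu, sub_zero]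
  have hA : T X - T Y = (p : ℂ) * e := by
    rw [← hsupp, sum_mult hb i j T _ hcol, hsocsum]
  have hcol2 : ∀ u : (P : Subgroup G), u ≠ 1 →
      ∑ χ ∈ blockSet M G, (χ : G → ℂ) (u : G) * (T χ * ((p : ℂ) * m χ / d χ)) =
      if u ^ p = 1 then (q : ℂ) * (((p : ℂ) - 1) * e) else 0 := by
    intro u hu
    have hne : u⁻¹ ^ p = 1 ↔ u ^ p = 1 := by rw [inv_pow, inv_eq_one]
    have e1 : ∀ χ : Cfsg.IrrCharacter G, (χ : G → ℂ) (u : G) * (T χ * ((p : ℂ) * m χ / d χ)) =
        ∑ k ∈ (Finset.univ : Finset (ZMod p)).erase 0,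
          conj ((χ : G → ℂ) ((u⁻¹ : (P : Subgroup G)) : G)) *
            (χ : G → ℂ) ((x : G) ^ k.val) * ((p : ℂ) * m χ / d χ) := by
      intro χ
      have hu' : conj ((χ : G → ℂ) ((u⁻¹ : (P : Subgroup G)) : G)) = (χ : G → ℂ) (u : G) := by
        rw [Subgroup.coe_inv, char_inv (irr_isCharacter χ), Complex.conj_conj]
      have h := sum_nonzero P hd hm χ
      simp only [SubgroupClass.coe_pow] at h
      rw [← Finset.sum_mul, ← Finset.mul_sum, h, hu', hT]
      ring
    rw [Finset.sum_congr rfl fun χ _ => e1 χ, Finset.sum_comm, Finset.sum_congr rfl fun k hk =>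
      basic_equation hM P hc hx hd hm u⁻¹ (l := k.val) (fun hdv => Finset.ne_of_mem_erase hk (by
        rwa [← ZMod.natCast_eq_zero_iff, ZMod.natCast_zmod_val] at hdv)),
      Finset.sum_const, Finset.card_erase_of_mem (Finset.mem_univ _), Finset.card_univ, ZMod.card,
      nsmul_eq_mul, Nat.cast_sub hp.out.one_le, Nat.cast_one]
    rw [if_congr hne rfl rfl]
    split <;> ring
  have hB : T X * ((p : ℂ) * m X / d X) - T Y * ((p : ℂ) * m Y / d Y) =
      (p : ℂ) * (((p : ℂ) - 1) * e) := by
    rw [← hsupp (fun χ => T χ * ((p : ℂ) * m χ / d χ)), sum_mult hb i j _ _ hcol2, hsocsum]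
  -- the real numbers
  set TX : ℝ := (p : ℝ) * m X - d X with hTX
  set TY : ℝ := (p : ℝ) * m Y - d Y with hTY
  have hA' : TX - TY = (p : ℝ) * e := by
    simp only [hT] at hA
    rw [hTX, hTY]
    exact_mod_cast hA
  have hdX : (0 : ℝ) < d X := by exact_mod_cast hdpos X
  have hdY' : (d Y : ℝ) = d X := by rw [hdXY]
  have hB' : TX * (TX + d X) - TY * (TY + d X) = (p : ℝ) * (((p : ℝ) - 1) * e) * d X := by
    have hB2 : TX * ((p : ℝ) * m X / d X) - TY * ((p : ℝ) * m Y / d Y) =
        (p : ℝ) * (((p : ℝ) - 1) * e) := by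
      simp only [hT] at hB
      rw [hTX, hTY]
      apply Complex.ofReal_injective
      push_cast
      exact hB
    rw [hdY'] at hB2
    have h1 : (p : ℝ) * m X = TX + d X := by rw [hTX]; ring
    have h2 : (p : ℝ) * m Y = TY + d X := by rw [hTY, hdY']; ring
    rw [h1, h2, ← mul_div_assoc, ← mul_div_assoc, div_sub_div_same, div_eq_iff hdX.ne'] at hB2
    exact hB2
  have hsum : TX + TY = ((p : ℝ) - 2) * d X := by
    have hne : (p : ℝ) * e ≠ 0 := mul_ne_zero (by exact_mod_cast hp.out.ne_zero)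
      (by exact_mod_cast (by omega : e ≠ 0))
    refine mul_left_cancel₀ hne ?_
    have e1 : TX * (TX + d X) - TY * (TY + d X) = (TX - TY) * (TX + TY + d X) := by ring
    rw [e1, hA'] at hB'
    linarith
  have hsq := sum_sq_fix P hM hx hd hm
  have hsub : ({trivIrr G, X, Y} : Finset (Cfsg.IrrCharacter G)) ⊆ blockSet M G := by
    simp [Finset.insert_subset_iff, triv_mem_blockSet hM, hX, hY]
  have hle := Finset.sum_le_sum_of_subset_of_nonneg hsub
    (f := fun χ => ((p : ℝ) * m χ - d χ) ^ 2) fun χ _ _ => sq_nonneg _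
  rw [hsq, Finset.sum_insert (by simp [Ne.symm hXt, Ne.symm hYt]), Finset.sum_pair hXY,
    m_triv P hm, d_triv hd, ← hTX, ← hTY, Nat.cast_one, mul_one] at hle
  refine false_of_big (p := p) (q := q) (e := e) (d := d W) (by omega) hq hele hdW ?_
  have e2 : (((p : ℝ) - 2) * d W) ^ 2 + ((p : ℝ) * e) ^ 2 = 2 * (TX ^ 2 + TY ^ 2) := by
    rw [hWXY, ← hsum, ← hA']; ring
  rw [e2]
  linarith

end Cfsg.Agent.Components.CyclicPairs
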