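import Mathlib
import Cfsg.Agent.Lib.Components.CyclicPairs.Arith
import Cfsg.Agent.Lib.Components.CyclicPairs.Common
import Cfsg.Agent.Lib.Components.CyclicPairs.Mult
import Cfsg.Agent.BlockCharsA.DefectZeroVanish

/-!
The case of a Sylow subgroup of order p.
-/

set_option autoImplicit false
set_option linter.all false

namespace Cfsg.Agent.Components.CyclicPairs

open Cfsg.Agent.Characters
open scoped ComplexConjugate

universe u

variable {G : Type u} [Group G] [Finite G] [IsSimpleGroup G] {p : ℕ} [hp : Fact p.Prime]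

theorem false_of_card_prime (P : Sylow p G) [IsCyclic (P : Subgroup G)]
    (hq : Nat.card (P : Subgroup G) = p)
    (he2 : 2 ≤ Nat.card (autImage (P : Subgroup G)))
    (hep : Nat.card (autImage (P : Subgroup G)) + 2 ≤ p)
    (hc : ∀ a b : G, orderOf a = p → orderOf b = p →
      Cfsg.IsPSolvable p ↥(Subgroup.closure ({a, b} : Set G))) : False := by
  classical
  obtain ⟨M, hM⟩ := BlockCharsA.DefectZeroVanish.exists_modular hp.out
  letI := Fintype.ofFinite (P : Subgroup G)
  obtain ⟨g, hg⟩ := IsCyclic.exists_ofOrder_eq_natCard (α := (P : Subgroup G))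
  rw [hq] at hg
  set x := g with hxdef
  have hx : orderOf x = p := hg
  have hx1 : x ≠ 1 := fun h => hp.out.ne_one (by rw [← hx, h, orderOf_one])
  choose d hd using fun χ : Cfsg.IrrCharacter G => (irr_one_pos χ.2).imp fun n h => h.2
  have hxG : orderOf (x : G) = p := by rw [Subgroup.orderOf_coe]; exact hx
  choose m hm using exists_fix_mult hxG
  set e := Nat.card (autImage (P : Subgroup G)) with he
  have hdpos := d_pos hd
  have hdR : ∀ χ : Cfsg.IrrCharacter G, (0 : ℝ) < d χ := fun χ => by exact_mod_cast hdpos χ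
  have hp1 : (1 : ℝ) < (p : ℝ) := by exact_mod_cast hp.out.one_lt
  have hpow : ∀ l : ℕ, (x ^ l) ^ p = 1 := fun l => by
    rw [← pow_mul, mul_comm, pow_mul, show x ^ p = 1 from orderOf_dvd_iff_pow_eq_one.mp hx.dvd,
      one_pow]
  -- the pair equation
  have hE : ∀ k l : ℕ, ¬ p ∣ l → ∑ χ ∈ blockSet M G,
      conj ((χ : G → ℂ) ((x : G) ^ k)) * (χ : G → ℂ) ((x : G) ^ l) * ((p : ℂ) * m χ / d χ) =
      (p : ℂ) * e := by
    intro k l hl
    have h := basic_equation hM P hc hx hd hm (x ^ k) hl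
    rw [if_pos (hpow k), hq, SubgroupClass.coe_pow] at h
    exact h
  -- constancy on the powers of `x`
  have hconst : ∀ χ ∈ blockSet M G, 0 < m χ → ∀ l : ℕ, ¬ p ∣ l →
      (χ : G → ℂ) ((x : G) ^ l) = (χ : G → ℂ) ((x : G) ^ 1) := by
    intro χ hχ hmχ l hl
    have h1 := hE l l hl
    have h2 := hE 1 l hl
    have h3 := hE l 1 hp.out.not_dvd_one
    have h4 := hE 1 1 hp.out.not_dvd_one
    have hz : ((∑ χ ∈ blockSet M G, ‖(χ : G → ℂ) ((x : G) ^ l) - (χ : G → ℂ) ((x : G) ^ 1)‖ ^ 2 *
        ((p : ℝ) * m χ / d χ) : ℝ) : ℂ) = 0 := by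
      rw [Complex.ofReal_sum]
      have e' : ∀ χ : Cfsg.IrrCharacter G,
          ((‖(χ : G → ℂ) ((x : G) ^ l) - (χ : G → ℂ) ((x : G) ^ 1)‖ ^ 2 *
            ((p : ℝ) * m χ / d χ) : ℝ) : ℂ) =
          conj ((χ : G → ℂ) ((x : G) ^ l)) * (χ : G → ℂ) ((x : G) ^ l) * ((p : ℂ) * m χ / d χ) -
          conj ((χ : G → ℂ) ((x : G) ^ 1)) * (χ : G → ℂ) ((x : G) ^ l) * ((p : ℂ) * m χ / d χ) -
          conj ((χ : G → ℂ) ((x : G) ^ l)) * (χ : G → ℂ) ((x : G) ^ 1) * ((p : ℂ) * m χ / d χ) +
          conj ((χ : G → ℂ) ((x : G) ^ 1)) * (χ : G → ℂ) ((x : G) ^ 1) * ((p : ℂ) * m χ / d χ) := by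
        intro χ
        rw [Complex.ofReal_mul, Complex.ofReal_pow, ← Complex.mul_conj', map_sub]
        push_cast
        ring
      rw [Finset.sum_congr rfl fun χ _ => e' χ, Finset.sum_add_distrib, Finset.sum_sub_distrib,
        Finset.sum_sub_distrib, h1, h2, h3, h4]
      ring
    have h5 := (Finset.sum_eq_zero_iff_of_nonneg fun χ _ => by positivity).mp
      (Complex.ofReal_eq_zero.mp hz) χ hχ
    have hne : (p : ℝ) * m χ / d χ ≠ 0 := by
      refine div_ne_zero (mul_ne_zero (by exact_mod_cast hp.out.ne_zero) ?_) (hdR χ).ne'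
      exact_mod_cast hmχ.ne'
    have h6 := (mul_eq_zero.mp h5).resolve_right hne
    exact sub_eq_zero.mp (norm_eq_zero.mp (sq_eq_zero_iff.mp h6))
  set c : Cfsg.IrrCharacter G → ℝ := fun χ => ((p : ℝ) * m χ - d χ) / ((p : ℝ) - 1) with hcdef
  have hval : ∀ χ ∈ blockSet M G, 0 < m χ → ∀ l : ℕ, ¬ p ∣ l →
      (χ : G → ℂ) ((x : G) ^ l) = (c χ : ℂ) := by
    intro χ hχ hmχ l hl
    have h := sum_nonzero P hd hm χ
    rw [Finset.sum_congr rfl (g := fun _ => (χ : G → ℂ) ((x : G) ^ 1)) fun j hj => by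
      rw [SubgroupClass.coe_pow]
      refine hconst χ hχ hmχ _ fun hdv => Finset.ne_of_mem_erase hj ?_
      rwa [← ZMod.natCast_eq_zero_iff, ZMod.natCast_zmod_val] at hdv,
      Finset.sum_const, Finset.card_erase_of_mem (Finset.mem_univ _), Finset.card_univ, ZMod.card,
      nsmul_eq_mul, Nat.cast_sub hp.out.one_le, Nat.cast_one] at h
    rw [hconst χ hχ hmχ l hl, hcdef]
    have hne : (p : ℂ) - 1 ≠ 0 := by
      rw [sub_ne_zero]; exact_mod_cast hp.out.ne_one
    push_cast
    rw [eq_div_iff hne, mul_comm]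
    exact h
  -- the weighted norm
  have hW : ∑ χ ∈ blockSet M G, (p : ℝ) * m χ / d χ * c χ ^ 2 = (p : ℝ) * e := by
    have h := hE 1 1 hp.out.not_dvd_one
    have e' : ∀ χ ∈ blockSet M G, conj ((χ : G → ℂ) ((x : G) ^ 1)) *
        (χ : G → ℂ) ((x : G) ^ 1) * ((p : ℂ) * m χ / d χ) =
        (((p : ℝ) * m χ / d χ * c χ ^ 2 : ℝ) : ℂ) := by
      intro χ hχ
      rcases Nat.eq_zero_or_pos (m χ) with h0 | h0
      · simp [h0]
      · rw [hval χ hχ h0 1 hp.out.not_dvd_one, Complex.conj_ofReal]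
        push_cast; ring
    rw [Finset.sum_congr rfl e', ← Complex.ofReal_sum] at h
    exact_mod_cast h
  have hS : ∑ χ ∈ blockSet M G, c χ ^ 2 * ((p : ℝ) - 1) = (p : ℝ) * e := by
    have h := sum_sq_fix P hM hx hd hm
    rw [hq] at h
    refine mul_left_cancel₀ (sub_ne_zero.mpr hp1.ne') ?_
    rw [← mul_assoc, ← h, Finset.mul_sum]
    refine Finset.sum_congr rfl fun χ _ => ?_
    have hne : (p : ℝ) - 1 ≠ 0 := sub_ne_zero.mpr hp1.ne'
    simp only [hcdef]
    field_simp
  set B' := (blockSet M G).erase (trivIrr G) with hB'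
  have hsplit : ∀ f : Cfsg.IrrCharacter G → ℝ,
      ∑ χ ∈ blockSet M G, f χ = f (trivIrr G) + ∑ χ ∈ B', f χ := fun f =>
    (Finset.add_sum_erase _ f (triv_mem_blockSet hM)).symm
  have hc1 : c (trivIrr G) = 1 := by
    simp only [hcdef]
    rw [d_triv hd, m_triv P hm, Nat.cast_one, mul_one, div_self (sub_ne_zero.mpr hp1.ne')]
  rw [hsplit, hc1, d_triv hd, m_triv P hm] at hW
  rw [hsplit, hc1, ← Finset.sum_mul] at hS
  simp only [Nat.cast_one, mul_one, one_pow, div_one, one_mul] at hW hS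
  set S := ∑ χ ∈ B', c χ ^ 2 with hSdef
  have hep' : (e : ℝ) + 1 < p := by exact_mod_cast (by omega : e + 1 < p)
  have hSe : S < e := by nlinarith
  have he' : (2 : ℝ) ≤ e := by exact_mod_cast he2
  refine false_of_prime hp.out he2 hep hSe ?_
  calc (p : ℝ) * e - p = ∑ χ ∈ B', (p : ℝ) * m χ / d χ * c χ ^ 2 := by linarith
    _ ≤ ∑ χ ∈ B', ((e : ℝ) + 3) / 2 * c χ ^ 2 := by
        refine Finset.sum_le_sum fun χ hχ => mul_le_mul_of_nonneg_right ?_ (sq_nonneg _)
        have hχB := Finset.mem_of_mem_erase hχ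
        have hc2 : c χ ^ 2 ≤ S :=
          Finset.single_le_sum (f := fun χ => c χ ^ 2) (fun χ _ => sq_nonneg _) hχ
        have hce : |c χ| ≤ ((e : ℝ) + 1) / 2 := by
          refine abs_le_of_sq_le_sq ?_ (by linarith)
          nlinarith [sq_nonneg ((e : ℝ) - 1)]
        have hWc : (p : ℝ) * m χ = d χ + ((p : ℝ) - 1) * c χ := by
          simp only [hcdef]
          rw [mul_div_cancel₀ _ (sub_ne_zero.mpr hp1.ne')]; ring
        rw [hWc, div_le_iff₀ (hdR χ)]
        rcases le_or_gt (c χ) 0 with h0 | h0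
        · nlinarith [hdR χ]
        have hmχ : 0 < m χ := Nat.pos_of_ne_zero fun hm0 => by
          rw [hm0, Nat.cast_zero, mul_zero] at hWc
          nlinarith [hdR χ]
        -- the degree is at least `c + p`
        have hdp : c χ + p ≤ d χ := by
          obtain ⟨b, hb⟩ := exists_isMult P
          obtain ⟨lam, hlam, hlx⟩ := exists_irr_ne (G := (P : Subgroup G)) hx1
          set η : Cfsg.IrrCharacter (P : Subgroup G) := ⟨lam, hlam⟩ with hη
          have hηne : η ≠ trivIrr _ := fun h => hlx (by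
            rw [show lam = (η : ↥(P : Subgroup G) → ℂ) from rfl, h]; rfl)
          have hsum : ∑ u : (P : Subgroup G), conj ((η : ↥(P : Subgroup G) → ℂ) u) = 0 := by
            have h := classInner_irr (trivIrr (P : Subgroup G)) η
            rw [if_neg (Ne.symm hηne), classInner_def] at h
            simpa [trivIrr, natCard_ne_zero] using h
          have hvalP : ∀ u : (P : Subgroup G), u ≠ 1 → (χ : G → ℂ) (u : G) = (c χ : ℂ) := by
            intro u hu
            obtain ⟨l, hl⟩ := mem_powers_iff_mem_zpowers.mpr (mem_zpowers_of_orderOf_dvd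
              (x := x) (y := u) (by rw [hx]; exact (orderOf_dvd_natCard u).trans hq.dvd))
            have hl' : x ^ l = u := hl
            rw [← hl', SubgroupClass.coe_pow]
            refine hval χ hχB hmχ l fun hdv => hu ?_
            rw [← hl']
            exact orderOf_dvd_iff_pow_eq_one.mp (hx.symm ▸ hdv)
          have h := hb η χ
          rw [classInner_def, inv_mul_eq_iff_eq_mul₀ natCard_ne_zero, hq] at h
          have e1 : ∀ u : (P : Subgroup G), (χ : G → ℂ) (u : G) *
              conj ((η : ↥(P : Subgroup G) → ℂ) u) =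
              (c χ : ℂ) * conj ((η : ↥(P : Subgroup G) → ℂ) u) +
                if u = 1 then (d χ : ℂ) - c χ else 0 := by
            intro u
            split
            · next h => subst h; rw [irrP_one, Subgroup.coe_one, hd χ]; simp
            · next h => rw [hvalP u h, add_zero]
          rw [Finset.sum_congr rfl fun u _ => e1 u, Finset.sum_add_distrib, ← Finset.mul_sum, hsum,
            Finset.sum_ite_eq', if_pos (Finset.mem_univ _), mul_zero, zero_add] at h
          have h' : (d χ : ℝ) - c χ = (p : ℝ) * b η χ := by exact_mod_cast h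
          rcases Nat.eq_zero_or_pos (b η χ) with hb0 | hb0
          · exfalso
            rw [hb0, Nat.cast_zero, mul_zero] at h'
            refine hx1 (Subtype.ext (eq_one_of_value_eq (Finset.ne_of_mem_erase hχ) ?_))
            rw [← pow_one (x : G), hval χ hχB hmχ 1 hp.out.not_dvd_one, hd χ]
            have h2 : c χ = (d χ : ℝ) := by linarith
            rw [h2]; norm_num
          · have h1 : (1 : ℝ) ≤ b η χ := by exact_mod_cast hb0
            nlinarith
        rw [abs_of_pos h0] at hce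
        nlinarith [mul_le_mul_of_nonneg_left (by linarith : ((p : ℝ) - 1) ≤ d χ) h0.le,
          mul_le_mul_of_nonneg_right hce (hdR χ).le]
    _ = ((e : ℝ) + 3) / 2 * S := by rw [hSdef, Finset.mul_sum]

end Cfsg.Agent.Components.CyclicPairs
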