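import Mathlib
import Cfsg.Prelude.Def_Transfer
import Cfsg.Agent.GStructB.PSolvableExt
import Cfsg.Agent.Lib.Components.CyclicPairs.CasePrime
import Cfsg.Agent.Lib.Components.CyclicPairs.CaseBig
import Cfsg.Agent.Lib.Components.PairCount.Main

/-!
A group with cyclic Sylow p-subgroup in which any two elements of order p generate a p-solvable
subgroup is p-solvable.
-/

set_option autoImplicit false
set_option linter.all false

namespace Cfsg.Agent.Components.CyclicPairs

open Subgroup Cfsg.Agent.PLocal.Cores Cfsg.Agent.GStructB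

universe u

variable {p : ℕ} [hp : Fact p.Prime]

/-- No simple group without normal `p`-complement has this property. -/
theorem false_of_simple {G : Type u} [Group G] [Finite G] [IsSimpleGroup G] (P : Sylow p G)
    [IsCyclic (P : Subgroup G)] (hP1 : (P : Subgroup G) ≠ ⊥)
    (hnc : ¬ Cfsg.HasNormalPComplement p G)
    (hc : ∀ a b : G, orderOf a = p → orderOf b = p →
      Cfsg.IsPSolvable p ↥(Subgroup.closure ({a, b} : Set G))) : False := by
  classical
  have he2 := two_le_card_autImage P hnc
  obtain ⟨n, hn⟩ := IsPGroup.iff_card.mp P.isPGroup'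
  have hn0 : n ≠ 0 := by
    intro h
    rw [h, pow_zero] at hn
    exact hP1 (Subgroup.eq_bot_of_card_eq _ hn)
  rcases Nat.lt_or_ge 1 n with h1 | h1
  · refine false_of_big_sylow P ?_ he2 hc
    rw [hn, ← sq]
    exact Nat.pow_le_pow_right hp.out.pos h1
  obtain rfl : n = 1 := by omega
  rw [pow_one] at hn
  obtain ⟨x, hx⟩ := IsCyclic.exists_ofOrder_eq_natCard (α := (P : Subgroup G))
  rw [hn] at hx
  have hle := card_autImage_le P hx
  by_cases hep : Nat.card (autImage (P : Subgroup G)) + 2 ≤ p
  · exact false_of_card_prime P hn he2 hep hc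
  have hp3 : p ≠ 2 := by omega
  refine hp3 (PairCount.eq_two P hP1 ⟨?_, fun y hy => ?_⟩ ?_ ?_ hc)
  · letI := IsCyclic.commGroup (α := (P : Subgroup G))
    exact ⟨⟨mul_comm⟩⟩
  · have h := congrArg Subtype.val
      (orderOf_dvd_iff_pow_eq_one.mp ((_root_.orderOf_dvd_natCard (⟨y, hy⟩ : (P : Subgroup G))).trans hn.dvd))
    simpa using h
  · -- all non-identity elements are conjugate
    intro y hy z hz hy1 hz1
    letI := Fintype.ofFinite (P : Subgroup G)
    letI := Fintype.ofFinite (autImage (P : Subgroup G))
    have hy' : (⟨y, hy⟩ : (P : Subgroup G)) ≠ 1 := fun h => hy1 (congrArg Subtype.val h)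
    set f := fun a : autImage (P : Subgroup G) => (a : MulAut (P : Subgroup G)) ⟨y, hy⟩ with hf
    have himg : Finset.univ.image f = (Finset.univ : Finset (P : Subgroup G)).erase 1 := by
      refine Finset.eq_of_subset_of_card_le (fun w hw => ?_) ?_
      · obtain ⟨a, -, rfl⟩ := Finset.mem_image.mp hw
        exact Finset.mem_erase.mpr ⟨fun h => hy'
          ((map_eq_one_iff _ (MulEquiv.injective _)).mp h), Finset.mem_univ _⟩
      · rw [Finset.card_erase_of_mem (Finset.mem_univ _), Finset.card_image_of_injective _
          (autImage_injOn P hy'), Finset.card_univ, Finset.card_univ, ← Nat.card_eq_fintype_card,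
          ← Nat.card_eq_fintype_card, hn]
        omega
    have hmem : (⟨z, hz⟩ : (P : Subgroup G)) ∈ Finset.univ.image f := by
      rw [himg]
      exact Finset.mem_erase.mpr ⟨fun h => hz1 (congrArg Subtype.val h), Finset.mem_univ _⟩
    obtain ⟨a, -, ha⟩ := Finset.mem_image.mp hmem
    exact (isConj_iff_autImage P ⟨y, hy⟩ ⟨z, hz⟩).mpr ⟨a, a.2, ha⟩
  · intro y hy hy'
    exact centralizer_hasNormalPComplement P ⟨y, hy⟩ fun h =>
      hp.out.ne_one (by rw [← hy', show y = 1 from congrArg Subtype.val h, orderOf_one])

theorem isPSolvable_of_pairs_aux (n : ℕ) : ∀ (G : Type u) [Group G] [Finite G], Nat.card G ≤ n →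
    ∀ P : Sylow p G, IsCyclic (P : Subgroup G) →
    (∀ a b : G, orderOf a = p → orderOf b = p →
      Cfsg.IsPSolvable p ↥(Subgroup.closure ({a, b} : Set G))) → Cfsg.IsPSolvable p G := by
  induction n with
  | zero => intro G _ _ hn; exact absurd hn (not_le.2 Nat.card_pos)
  | succ n ih =>
    intro G _ _ hn P hPc hc
    haveI := hPc
    obtain ⟨k, hk⟩ := IsPGroup.iff_card.mp P.isPGroup'
    by_cases hP1 : (P : Subgroup G) = ⊥
    · refine PSolvableExt.of_card_good (Or.inr ((hp.out.coprime_iff_not_dvd.mpr ?_).symm))
      have h := P.not_dvd_index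
      rwa [hP1, Subgroup.index_bot] at h
    by_cases hK : Cfsg.pPrimeCore p G = ⊥
    swap
    · -- pass to the quotient by `O_{p'}`
      set K := Cfsg.pPrimeCore p G with hKdef
      haveI : K.Normal := pPrimeCore_normal'
      have hKp : ¬ p ∣ Nat.card K := not_dvd_card_pPrimeCore hp.out.ne_one
      refine PSolvableExt.of_normal_good K (Or.inr coprime_card_pPrimeCore) (ih (G ⧸ K) ?_
        (P.mapSurjective (QuotientGroup.mk'_surjective K)) (isCyclic_of_surjective
          ((QuotientGroup.mk' K).subgroupMap (P : Subgroup G))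
          ((QuotientGroup.mk' K).subgroupMap_surjective _)) ?_)
      · have h1 := Subgroup.card_eq_card_quotient_mul_card_subgroup K
        have h2 : 1 < Nat.card K := (Subgroup.one_lt_card_iff_ne_bot K).2 hK
        have h3 : 0 < Nat.card (G ⧸ K) := Nat.card_pos
        nlinarith
      have hlift : ∀ c : G ⧸ K, orderOf c = p →
          ∃ a : G, QuotientGroup.mk' K a = c ∧ orderOf a = p := by
        intro c hc'
        obtain ⟨g, rfl⟩ := QuotientGroup.mk'_surjective K c
        obtain ⟨u, y, hy1, hy2, ⟨i, hi⟩, hy4⟩ := Blocks.exists_ppart hp.out g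
        have hπy : QuotientGroup.mk' K y = 1 := by
          have h1 : orderOf (QuotientGroup.mk' K u * QuotientGroup.mk' K y) = p := by
            rw [← map_mul, hy1]; exact hc'
          obtain ⟨j, -, hj⟩ := (Nat.dvd_prime_pow hp.out).mp
            (hi ▸ orderOf_map_dvd (QuotientGroup.mk' K) u)
          have hy5 : ¬ p ∣ orderOf (QuotientGroup.mk' K y) := fun hd =>
            hy4 (hd.trans (orderOf_map_dvd _ y))
          rw [(hy2.map (QuotientGroup.mk' K)).orderOf_mul_eq_mul_orderOf_of_coprime (by
            rw [hj]; exact Nat.Coprime.pow_left j (hp.out.coprime_iff_not_dvd.mpr hy5))] at h1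
          exact orderOf_eq_one_iff.mp (((Nat.dvd_prime hp.out).mp
            ((dvd_mul_left _ _).trans h1.dvd)).resolve_right fun h => hy5 h.symm.dvd)
        have hu : QuotientGroup.mk' K u = QuotientGroup.mk' K g := by
          rw [← hy1, map_mul, hπy, mul_one]
        refine ⟨u, hu, Nat.dvd_antisymm ?_ (hc' ▸ hu ▸ orderOf_map_dvd _ u)⟩
        refine orderOf_dvd_of_pow_eq_one ?_
        have hmem : u ^ p ∈ K := by
          refine (QuotientGroup.eq_one_iff _).mp ?_
          change QuotientGroup.mk' K (u ^ p) = 1
          rw [map_pow, hu, ← hc', pow_orderOf_eq_one]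
        obtain ⟨j, -, hj⟩ := (Nat.dvd_prime_pow hp.out).mp (hi ▸ orderOf_pow_dvd (x := u) p)
        rcases Nat.eq_zero_or_pos j with h | h
        · rw [h, pow_zero] at hj; exact orderOf_eq_one_iff.mp hj
        · exact absurd ((dvd_pow_self p h.ne').trans (hj ▸ Subgroup.orderOf_dvd_natCard K hmem)) hKp
      intro a b ha hb
      obtain ⟨a', rfl, ha'⟩ := hlift a ha
      obtain ⟨b', rfl, hb'⟩ := hlift b hb
      have h := PLocal.PSolvable.of_surjective (hc a' b' ha' hb')
        ((QuotientGroup.mk' K).subgroupMap_surjective (Subgroup.closure ({a', b'} : Set G)))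
      rw [MonoidHom.map_closure, Set.image_pair] at h
      exact h
    by_cases hO : Cfsg.pCore p G = ⊥
    swap
    · -- a normal subgroup of order `p`
      have hOP : Cfsg.pCore p G ≤ (P : Subgroup G) := pCore_le_sylow P
      obtain ⟨z, hz⟩ := exists_prime_orderOf_dvd_card' (G := Cfsg.pCore p G) p (by
        obtain ⟨i, hi⟩ := IsPGroup.iff_card.mp (isPGroup_pCore (p := p) (G := G))
        rw [hi]
        refine dvd_pow_self p fun h => hO (Subgroup.eq_bot_of_card_eq _ ?_)
        rw [hi, h, pow_zero])
      set x : (P : Subgroup G) := ⟨(z : G), hOP z.2⟩ with hxdef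
      have hxG : orderOf (x : G) = p := by rw [hxdef]; exact (Subgroup.orderOf_coe z).trans hz
      have hx : orderOf x = p := by rw [← Subgroup.orderOf_coe]; exact hxG
      have hx1 : x ≠ 1 := fun h => hp.out.ne_one (by rw [← hx, h, orderOf_one])
      have hZ : (zpowers (x : G)).Normal := by
        refine ⟨fun y hy g => ?_⟩
        obtain ⟨i, rfl⟩ := hy
        rw [← conj_zpow]
        refine zpow_mem ?_ i
        have hmem : g * (x : G) * g⁻¹ ∈ (P : Subgroup G) :=
          hOP ((pCore_normal' (p := p)).conj_mem _ z.2 g)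
        have h := mem_zpowers_of_orderOf_dvd (x := x) (y := ⟨_, hmem⟩) (by
          rw [hx, Subgroup.orderOf_mk, show orderOf (g * (x : G) * g⁻¹) = p from
            (MulEquiv.orderOf_eq (MulAut.conj g) (x : G)).trans hxG])
        obtain ⟨j, hj⟩ := h
        exact ⟨j, by simpa using congrArg Subtype.val hj⟩
      set C := Subgroup.centralizer ({(x : G)} : Set G) with hC
      haveI hCn : C.Normal := by
        haveI := hZ
        have e : Subgroup.centralizer ((zpowers (x : G) : Subgroup G) : Set G) = C := by
          rw [hC, Subgroup.zpowers_eq_closure, Subgroup.centralizer_closure]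
        rw [← e]; infer_instance
      have hθ : Cfsg.pPrimeCore p C = ⊥ := by
        rw [← (Cfsg.pPrimeCore p C).map_eq_bot_iff_of_injective C.subtype_injective, ← le_bot_iff]
        exact (map_subtype_pPrimeCore_le C).trans hK.le
      have hCcard : Nat.card C = Nat.card (P : Subgroup G) := by
        rw [← index_centralizer_core P x hx1, ← hC, hθ, Subgroup.index_bot]
      refine PSolvableExt.of_normal_good C (Or.inl ⟨k, hCcard.trans hk⟩)
        (PSolvableExt.of_card_good (Or.inr ((hp.out.coprime_iff_not_dvd.mpr ?_).symm)))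
      rw [← Subgroup.index]
      intro hd
      refine P.not_dvd_index (hd.trans (dvd_of_eq ?_))
      have h1 := C.card_mul_index
      rw [hCcard, ← (P : Subgroup G).card_mul_index] at h1
      exact Nat.eq_of_mul_eq_mul_left Nat.card_pos h1
    by_cases hsimple : ∀ N : Subgroup G, N.Normal → N = ⊥ ∨ N = ⊤
    swap
    · exfalso
      push Not at hsimple
      obtain ⟨N, hN, hN1, hN2⟩ := hsimple
      haveI := hN
      haveI : Nontrivial N := (Subgroup.nontrivial_iff_ne_bot N).mpr hN1
      obtain ⟨S⟩ := (inferInstance : Nonempty (Sylow p N))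
      obtain ⟨Q, hQ⟩ := (S.isPGroup'.map N.subtype).exists_le_sylow
      haveI : IsCyclic (Q : Subgroup G) := (P.equiv Q).isCyclic.mp inferInstance
      haveI := Subgroup.isCyclic_of_le hQ
      have hlt : Nat.card N ≤ n := by
        have h1 := N.card_mul_index
        have h2 : N.index ≠ 1 := fun h => hN2 (Subgroup.index_eq_one.mp h)
        have h3 : 0 < N.index := Nat.pos_of_ne_zero Subgroup.index_ne_zero_of_finite
        have h4 : 0 < Nat.card N := Nat.card_pos
        nlinarith [show 2 ≤ N.index by omega]
      have hNs := ih N hlt S (((S : Subgroup N).equivMapOfInjective N.subtype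
        N.subtype_injective).isCyclic.mpr inferInstance) (fun a b ha hb => by
          have h := hc (a : G) (b : G) (by rw [Subgroup.orderOf_coe]; exact ha)
            (by rw [Subgroup.orderOf_coe]; exact hb)
          have e : (Subgroup.closure ({a, b} : Set N)).map N.subtype =
              Subgroup.closure ({(a : G), (b : G)} : Set G) := by
            rw [MonoidHom.map_closure, Set.image_pair]; rfl
          rw [← e] at h
          exact PLocal.PSolvable.congr
            (Subgroup.equivMapOfInjective _ N.subtype N.subtype_injective).symm h)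
      rcases PLocal.PSolvable.exists_core_ne_bot hNs with h | h
      · refine h ?_
        rw [← (Cfsg.pCore p N).map_eq_bot_iff_of_injective N.subtype_injective, ← le_bot_iff]
        exact (map_subtype_pCore_le N).trans hO.le
      · refine h ?_
        rw [← (Cfsg.pPrimeCore p N).map_eq_bot_iff_of_injective N.subtype_injective, ← le_bot_iff]
        exact (map_subtype_pPrimeCore_le N).trans hK.le
    haveI : Nontrivial G := by
      by_contra h
      haveI := not_nontrivial_iff_subsingleton.mp h
      exact hP1 (Subsingleton.elim _ _)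
    haveI : IsSimpleGroup G := ⟨hsimple⟩
    by_cases hnc : Cfsg.HasNormalPComplement p G
    · obtain ⟨i, hi⟩ := Transfer.NormalPComplement.hasNormalPComplement_iff_pPrimeCore.mp hnc
      rw [hK, Subgroup.index_bot] at hi
      exact PSolvableExt.of_card_good (Or.inl ⟨i, hi⟩)
    exact (false_of_simple P hP1 hnc hc).elim

theorem isPSolvable_of_pairs {G : Type u} [Group G] [Finite G] (P : Sylow p G)
    (hPc : IsCyclic (P : Subgroup G))
    (hc : ∀ a b : G, orderOf a = p → orderOf b = p →
      Cfsg.IsPSolvable p ↥(Subgroup.closure ({a, b} : Set G))) : Cfsg.IsPSolvable p G :=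
  isPSolvable_of_pairs_aux (Nat.card G) G le_rfl P hPc hc

end Cfsg.Agent.Components.CyclicPairs
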